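import Cfsg.Agent.OddOrder.BG3.PLengthCore

/-!
BG 3.6, the final configuration with `K` abelian: orbit counting gives a contradiction in odd order.
-/

set_option autoImplicit false

namespace Cfsg.Agent.OddOrder.BG3

open Subgroup
open scoped IsMulCommutative commutatorElement

variable {G : Type*} [Group G] [Finite G]

namespace Config

variable {p q r : ℕ} [hp : Fact p.Prime] [hq : Fact q.Prime] [hr : Fact r.Prime]
  {P K Q : Subgroup G} {t : G}

theorem fix_eq_bot (h : Config p q r P K Q t) : fix K Q = ⊥ := by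
  haveI := h.comm_K
  have h1 := (Coprime.abelian_decomposition h.Q_norm_K h.cop_QK).1
  rw [h.commutator_KQ] at h1
  rwa [inf_eq_left.mpr inf_le_left] at h1

/-- The configuration is impossible. -/
theorem false_of_config (h : Config p q r P K Q t) : False := by
  classical
  haveI := h.comm_K
  haveI := h.P_comm
  obtain ⟨c, hc, hcF, heq⟩ := h.exists_moved_fixed
  have hKn : zpowers t ≤ normalizer (K : Set G) := zpowers_le.mpr h.t_norm_K
  set U := ⁅K, zpowers t⁆ with hU
  have hUK : U ≤ K := Coprime.commutator_le_left_of_normalizer hKn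
  obtain ⟨hUC, hUs⟩ := Coprime.abelian_decomposition hKn h.cop_tK
  have hKct : K ⊓ centralizer (zpowers t : Set G) = zpowers c :=
    le_antisymm ((inf_le_inf_left _ centralizer_zpowers_le).trans heq.le)
      (heq.ge.trans (inf_le_inf_left _ centralizer_single_le))
  rw [hKct, ← hU] at hUC hUs
  have htU : t ∈ normalizer (U : Set G) :=
    Coprime.mem_normalizer_commutator h.t_norm_K (le_normalizer (mem_zpowers t))
  have hUP : U ≤ normalizer (P : Set G) := hUK.trans h.K_norm_P
  -- `U` is nontrivial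
  have hUne : U ≠ ⊥ := by
    intro hb
    rw [hb, sup_bot_eq] at hUs
    have hcyc : IsCyclic K := by
      rw [← hUs]
      infer_instance
    have hQt : ⁅zpowers t, Q⁆ = Q := by
      have hle' : ⁅zpowers t, Q⁆ ≤ Q := commutator_comm (zpowers t) Q ▸
        Coprime.commutator_le_left_of_normalizer (zpowers_le.mpr h.t_norm_Q)
      by_contra hne
      have h0 := h.Q_min _ hle'
        (Coprime.mem_normalizer_commutator (le_normalizer (mem_zpowers t)) h.t_norm_Q) hne
      rw [commutator_comm, commutator_eq_bot_iff_le_centralizer] at h0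
      exact h.Q_ne (eq_bot_iff.mpr fun s hs => h.Q_fpf ▸ ⟨hs, centralizer_zpowers_le (h0 hs)⟩)
    have h1 := commutator_le_centralizer_of_cyclic hcyc hKn h.Q_norm_K
    rw [hQt, le_centralizer_iff] at h1
    exact h.K_moved h1
  -- the index of `U` in `K`
  have hcq : orderOf c = q := orderOf_eq_prime (h.pow_eq_one c hc.1)
    (fun h1 => hcF (h1 ▸ one_mem _))
  have hcard : Nat.card K = Nat.card U * q := by
    have hn : zpowers c ≤ normalizer (U : Set G) := zpowers_le.mpr (mem_normalizer_iff.mpr fun x =>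
      ⟨fun hx => by rwa [show c * x * c⁻¹ = x from mul_inv_eq_iff_eq_mul.mpr
          (congrArg Subtype.val (mul_comm' (⟨c, hc.1⟩ : K) ⟨x, hUK hx⟩))],
        fun hx => by
          have e : c * x * c⁻¹ * c = c * (c * x * c⁻¹) :=
            congrArg Subtype.val (mul_comm' (⟨c * x * c⁻¹, hUK hx⟩ : K) ⟨c, hc.1⟩)
          rw [inv_mul_cancel_right] at e
          rwa [← mul_left_cancel e] at hx⟩)
    have h1 := Coprime.card_sup hn (by rw [inf_comm]; exact hUC)
    rw [sup_comm, hUs, Nat.card_zpowers, hcq] at h1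
    rw [h1]
  -- invariant subgroups of `P` fixed-point-free for `t` are centralised by `U`
  have hinv : ∀ W' ≤ P, U ≤ normalizer (W' : Set G) → t ∈ normalizer (W' : Set G) →
      W' ⊓ centralizer ({t} : Set G) = ⊥ → W' ≤ centralizer (U : Set G) := by
    intro W' hW' hUW' htW' hf
    have hW'c : IsMulCommutative W' := ⟨⟨fun a b => Subtype.ext
      (show (a : G) * b = b * a from
        congrArg Subtype.val (mul_comm' (⟨a, hW' a.2⟩ : P) ⟨b, hW' b.2⟩))⟩⟩
    have h1 := commutator_le_centralizer_odd W' hW'c (fun v hv => h.P_exp v (hW' hv))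
      h.t_pow h.hpr htW' hf U hUW' htU
      (not_dvd_card_of_isPGroup hp.out hq.out h.hpq (h.K_isPGroup.to_le hUK))
      (not_dvd_card_of_isPGroup hr.out hq.out h.hqr.symm (h.K_isPGroup.to_le hUK))
      (odd_card_of_isPGroup hq.out h.hq2 (h.K_isPGroup.to_le hUK))
    rw [commutator_comm, hU, Coprime.commutator_commutator_eq hKn h.cop_tK (Or.inl (solvable_t t))] at h1
    exact le_centralizer_iff.mp h1
  obtain ⟨v, hv1, hv⟩ := h.P_line
  have hvp : orderOf v = p := orderOf_eq_prime (h.P_exp v (hv.ge (mem_zpowers v)).1) hv1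
  set P0 := P ⊓ centralizer (U : Set G) with hP0
  by_cases hP0b : P0 = ⊥
  · -- `c` acts on `P` as a power map
    obtain ⟨m, hm⟩ := exists_zpow_of_fix h.hpr h.P_comm h.P_exp h.t_pow h.t_norm_P
      (h.K_norm_P hc.1) hUP (mem_centralizer_single.mp hc.2)
      (fun z hz => congrArg Subtype.val (mul_comm' (⟨z, hUK hz⟩ : K) ⟨c, hc.1⟩)) hv
      (fun W' hW' hn ht hf => eq_bot_iff.mpr fun x hx => hP0b ▸ ⟨hW' hx, hinv W' hW' hn ht hf hx⟩)
    refine hcF ⟨hc.1, mem_centralizer_iff.mpr fun s hs => ?_⟩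
    have hcsK : ⁅c, s⁆ ∈ K := h.commutator_KQ.le (commutator_mem_commutator hc.1 hs)
    have hd : ∀ w ∈ P, (s * c * s⁻¹) * w * (s * c * s⁻¹)⁻¹ = w ^ m := by
      intro w hw
      have h1 := hm (s⁻¹ * w * s)
        (by simpa using (mem_normalizer_iff.mp (inv_mem (h.Q_norm_P hs)) w).mp hw)
      calc (s * c * s⁻¹) * w * (s * c * s⁻¹)⁻¹ = s * (c * (s⁻¹ * w * s) * c⁻¹) * s⁻¹ := by group
        _ = s * (s⁻¹ * w * s) ^ m * s⁻¹ := by rw [h1]
        _ = (s * (s⁻¹ * w * s) * s⁻¹) ^ m := conj_zpow.symm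
        _ = w ^ m := by group
    have h3 : ⁅c, s⁆ ∈ centralizer (P : Set G) := by
      refine mem_centralizer_iff.mpr fun w hw => ?_
      have hu : (s * c * s⁻¹)⁻¹ * w * (s * c * s⁻¹) ∈ P := by
        have : s * c * s⁻¹ ∈ normalizer (P : Set G) :=
          mul_mem (mul_mem (h.Q_norm_P hs) (h.K_norm_P hc.1)) (inv_mem (h.Q_norm_P hs))
        simpa using (mem_normalizer_iff.mp (inv_mem this) w).mp hw
      have e1 : c * ((s * c * s⁻¹)⁻¹ * w * (s * c * s⁻¹)) * c⁻¹ = w := by
        rw [hm _ hu, ← hd _ hu]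
        group
      calc w * ⁅c, s⁆ = c * ((s * c * s⁻¹)⁻¹ * w * (s * c * s⁻¹)) * c⁻¹ * ⁅c, s⁆ := by rw [e1]
        _ = ⁅c, s⁆ * w := by simp only [commutatorElement_def]; group
    exact (commutatorElement_eq_one_iff_mul_comm.mp (mem_bot.mp (h.faithful.le ⟨hcsK, h3⟩))).symm
  -- orbit counting
  obtain ⟨x0, hx0, hx01⟩ := (P0.ne_bot_iff_exists_ne_one.mp hP0b : ∃ a : P0, a ≠ 1) |>
    (fun ⟨a, ha⟩ => (⟨a, a.2, fun e => ha (Subtype.ext e)⟩ : ∃ x, x ∈ P0 ∧ x ≠ 1))
  set A := normalizer (P : Set G) with hA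
  let φ : A →* MulAut P := Coprime.conjOn (le_refl A)
  have hφ : ∀ (a : A) (y : P), ((φ a y : P) : G) = a * y * (a : G)⁻¹ := fun a y => rfl
  let X : P := ⟨x0, hx0.1⟩
  let T : A := ⟨t, h.t_norm_P⟩
  haveI : Fintype U := Fintype.ofFinite U
  let NU : P →* P := ∏ u : U, (φ ⟨u, hUP u.2⟩).toMonoidHom
  have hNU : ∀ y, NU y = ∏ u : U, φ ⟨u, hUP u.2⟩ y := fun y => by simp [NU]
  -- conjugates of `U` by elements of `Q`
  have hstab : ∀ s ∈ Q, s ≠ 1 → s ∉ normalizer (U : Set G) := by
    intro s hs hs1 hsn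
    have hne : Q ⊓ normalizer (U : Set G) ≠ Q := by
      intro he
      have hUne' : U ≠ K := by
        intro hUK'
        exact hcF ((mem_bot.mp (hUC.le ⟨mem_zpowers c, hUK'.ge hc.1⟩) : c = 1) ▸ one_mem _)
      have h1 := h.K_min U hUK (he.ge.trans inf_le_right) htU hUne'
      exact hUne (eq_bot_iff.mpr fun z hz => h.fix_eq_bot.le ⟨hUK hz, h1 hz⟩)
    have htn : t ∈ normalizer ((Q ⊓ normalizer (U : Set G) : Subgroup G) : Set G) :=
      inf_normalizer_le_normalizer_inf ⟨h.t_norm_Q, le_normalizer htU⟩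
    exact hs1 (mem_bot.mp ((h.Q_min _ inf_le_left htn hne).le ⟨hs, hsn⟩))
  have hkey : ∀ (e : A), (e : G) ∈ Q → (e : G) ≠ 1 → ∀ y : P, (y : G) ∈ centralizer (U : Set G) →
      NU (φ e y) = 1 := by
    intro e he he1 y hy
    set Ue := U.map (MulAut.conj (e : G)).toMonoidHom with hUe
    have hUeK : Ue ≤ K := by
      rintro _ ⟨u, hu, rfl⟩
      exact (mem_normalizer_iff.mp (h.Q_norm_K he) u).mp (hUK hu)
    have hsup : U ⊔ Ue = K := by
      refine eq_of_le_of_card_ge (sup_le hUK hUeK) ?_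
      obtain ⟨d, hd⟩ := card_dvd_of_le (le_sup_left : U ≤ U ⊔ Ue)
      have hdq : d ∣ q := by
        have := card_dvd_of_le (sup_le hUK hUeK)
        rw [hcard, hd] at this
        exact Nat.dvd_of_mul_dvd_mul_left Nat.card_pos this
      rcases (Nat.dvd_prime hq.out).mp hdq with h1 | h1
      · exfalso
        rw [h1, mul_one] at hd
        have hle : U = U ⊔ Ue := eq_of_le_of_card_ge le_sup_left hd.le
        have heU : Ue = U := eq_of_le_of_card_ge (hle.ge.trans' le_sup_right)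
          (card_map_of_injective (MulAut.conj (e : G)).injective).ge
        exact hstab _ he he1 (Coprime.mem_normalizer_of_map_conj heU)
      · rw [hcard, hd, h1]
    have hterm : ∀ u : U, ((φ ⟨u, hUP u.2⟩ (φ e y) : P) : G) ∈ centralizer (Ue : Set G) := by
      intro u
      refine mem_centralizer_iff.mpr ?_
      rintro _ ⟨u', hu', rfl⟩
      show (e : G) * u' * (e : G)⁻¹ * _ = _ * ((e : G) * u' * (e : G)⁻¹)
      rw [hφ, hφ]
      have hc1 : Commute (u : G) ((e : G) * u' * (e : G)⁻¹) := congrArg Subtype.val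
        (mul_comm' (⟨u, hUK u.2⟩ : K) ⟨_, (mem_normalizer_iff.mp (h.Q_norm_K he) u').mp (hUK hu')⟩)
      have hc2 : Commute ((e : G) * y * (e : G)⁻¹) ((e : G) * u' * (e : G)⁻¹) := by
        have := (mem_centralizer_iff.mp hy u' hu').symm
        exact Commute.conj (show Commute (y : G) u' from this) (e : G)
      exact ((hc1.mul_left hc2).mul_left hc1.inv_left).symm.eq
    have hmemUe : ((NU (φ e y) : P) : G) ∈ centralizer (Ue : Set G) := by
      have h1 : NU (φ e y) ∈ (centralizer (Ue : Set G)).comap P.subtype := by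
        rw [hNU]
        exact prod_mem fun u _ => hterm u
      exact h1
    have hmemU : ((NU (φ e y) : P) : G) ∈ centralizer (U : Set G) := by
      refine mem_centralizer_iff.mpr fun u hu => ?_
      have h1 : φ ⟨u, hUP hu⟩ (NU (φ e y)) = NU (φ e y) := by
        rw [hNU, map_prod]
        refine Fintype.prod_equiv (Equiv.mulLeft (⟨u, hu⟩ : U)) _ _ fun w => ?_
        rw [← MulAut.mul_apply, ← map_mul]
        rfl
      have h2 := congrArg Subtype.val h1
      rw [hφ] at h2
      exact mul_inv_eq_iff_eq_mul.mp h2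
    refine Subtype.ext (mem_bot.mp (h.fix_K.le ⟨(NU (φ e y)).2, ?_⟩))
    rw [← hsup]
    refine mem_centralizer_iff.mpr fun k hk => ?_
    have hle : U ⊔ Ue ≤ centralizer ({((NU (φ e y) : P) : G)} : Set G) :=
      sup_le (fun a ha => mem_centralizer_single.mpr (mem_centralizer_iff.mp hmemU a ha).symm)
        (fun a ha => mem_centralizer_single.mpr (mem_centralizer_iff.mp hmemUe a ha).symm)
    exact (mem_centralizer_single.mp (hle hk)).symm
  -- the norms of `T`-translates
  let f : A → P := fun S => ∏ i ∈ Finset.range r, φ (T ^ i * S) X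
  let g : A → A → P := fun S1 S => NU (φ S1⁻¹ (f S))
  have hXi : ∀ i : ℕ, (((φ (T ^ i)) X : P) : G) ∈ centralizer (U : Set G) := by
    intro i
    rw [hφ]
    have h1 : t ^ i ∈ normalizer ((centralizer (U : Set G) : Subgroup G) : Set G) :=
      mem_normalizer_centralizer (pow_mem htU i)
    simpa [T, X] using (mem_normalizer_iff.mp h1 x0).mp hx0.2
  have hg : ∀ S1 S, g S1 S = ∏ i ∈ Finset.range r,
      NU (φ (S1⁻¹ * (T ^ i * S * (T ^ i)⁻¹)) (φ (T ^ i) X)) := by
    intro S1 S
    show NU (φ S1⁻¹ (∏ i ∈ Finset.range r, φ (T ^ i * S) X)) = _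
    rw [map_prod, map_prod]
    refine Finset.prod_congr rfl fun i _ => ?_
    rw [← MulAut.mul_apply, ← MulAut.mul_apply, ← map_mul, ← map_mul]
    congr 3
    group
  have hconjQ : ∀ (i : ℕ) (s : G), s ∈ Q → t ^ i * s * (t ^ i)⁻¹ ∈ Q := fun i s hs =>
    (mem_normalizer_iff.mp (pow_mem h.t_norm_Q i) s).mp hs
  have hfree : ∀ (s : G), s ∈ Q → s ≠ 1 → ∀ i, 0 < i → i < r → t ^ i * s * (t ^ i)⁻¹ ≠ s := by
    intro s hs hs1 i hi0 hir he
    have hgen : t ∈ zpowers (t ^ i) := by
      have hco : (orderOf t).Coprime i := by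
        rw [h.order_t, hr.out.coprime_iff_not_dvd]
        exact Nat.not_dvd_of_pos_of_lt hi0 hir
      obtain ⟨m, hm⟩ := exists_pow_eq_self_of_coprime hco.symm
      exact mem_zpowers_iff.mpr ⟨m, by rw [zpow_natCast]; exact hm⟩
    refine hs1 (mem_bot.mp (h.Q_fpf.le ⟨hs, mem_centralizer_single.mpr ?_⟩))
    exact (mem_centralizer_iff.mp (mem_centralizer_zpowers (mem_centralizer_single.mpr
      (mul_inv_eq_iff_eq_mul.mp he) : s ∈ centralizer ({t ^ i} : Set G))) t hgen)
  have hgzero : ∀ S1 S : A, (S1 : G) ∈ Q → (S : G) ∈ Q →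
      (∀ i < r, t ^ i * (S : G) * (t ^ i)⁻¹ ≠ (S1 : G)) → g S1 S = 1 := by
    intro S1 S h1 h2 h3
    rw [hg]
    refine Finset.prod_eq_one fun i hi => hkey _ ?_ ?_ _ (hXi i)
    · exact mul_mem (inv_mem h1) (by simpa [T] using hconjQ i S h2)
    · intro e
      refine h3 i (Finset.mem_range.mp hi) ?_
      have e' : (S1 : G)⁻¹ * (t ^ i * S * (t ^ i)⁻¹) = 1 := by simpa [T] using e
      exact (inv_mul_eq_one.mp e').symm
  have hgone : ∀ S : A, (S : G) ∈ Q → (S : G) ≠ 1 → g S S = X ^ Nat.card U := by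
    intro S hS hS1
    rw [hg, Finset.prod_eq_single 0]
    · simp only [pow_zero, one_mul, inv_one, mul_one, inv_mul_cancel, map_one, MulAut.one_apply]
      rw [hNU, Finset.prod_eq_pow_card (b := X) fun u _ => Subtype.ext ?_, Finset.card_univ,
        Nat.card_eq_fintype_card]
      rw [hφ]
      show (u : G) * x0 * (u : G)⁻¹ = x0
      rw [mem_centralizer_iff.mp hx0.2 u u.2, mul_inv_cancel_right]
    · intro i hi hi0
      refine hkey _ ?_ ?_ _ (hXi i)
      · exact mul_mem (inv_mem hS) (by simpa [T] using hconjQ i S hS)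
      · intro e
        have e' : (S : G)⁻¹ * (t ^ i * S * (t ^ i)⁻¹) = 1 := by simpa [T] using e
        exact hfree S hS hS1 i (Nat.pos_of_ne_zero hi0) (Finset.mem_range.mp hi)
          (inv_mul_eq_one.mp e').symm
    · exact fun h0 => absurd (Finset.mem_range.mpr hr.out.pos) h0
  have hX1 : X ≠ 1 := fun e => hx01 (congrArg Subtype.val e)
  have hXp : orderOf X = p := orderOf_eq_prime (Subtype.ext (by simpa [X] using h.P_exp x0 hx0.1)) hX1
  have hpU : ¬ p ∣ Nat.card U :=
    not_dvd_card_of_isPGroup hp.out hq.out h.hpq (h.K_isPGroup.to_le hUK)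
  have hXU : X ^ Nat.card U ≠ 1 := fun e => hpU (hXp ▸ orderOf_dvd_of_pow_eq_one e)
  have hfC : ∀ S : A, ((f S : P) : G) ∈ zpowers v := by
    intro S
    rw [← hv]
    refine ⟨(f S).2, mem_centralizer_single.mpr (mul_inv_eq_iff_eq_mul.mp ?_)⟩
    have hTr : T ^ r = 1 := Subtype.ext (by simpa [T] using h.t_pow)
    have h1 : φ T (f S) = f S := by
      obtain ⟨r', hr'⟩ : ∃ r', r = r' + 1 := ⟨r - 1, by have := hr.out.pos; omega⟩
      simp only [f, hr', map_prod]
      simp only [← MulAut.mul_apply, ← map_mul, ← mul_assoc, ← pow_succ']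
      rw [Finset.prod_range_succ, Finset.prod_range_succ', ← hr', hTr, pow_zero]
    simpa [hφ, T] using congrArg Subtype.val h1
  -- all nontrivial elements of `Q` lie in one orbit
  obtain ⟨s1, hs1Q, hs11⟩ := (Q.ne_bot_iff_exists_ne_one.mp h.Q_ne : ∃ a : Q, a ≠ 1) |>
    (fun ⟨a, ha⟩ => (⟨a, a.2, fun e => ha (Subtype.ext e)⟩ : ∃ x, x ∈ Q ∧ x ≠ 1))
  set S1 : A := ⟨s1, h.Q_norm_P hs1Q⟩ with hS1
  have horb : ∀ s ∈ Q, s ≠ 1 → ∃ i < r, t ^ i * s1 * (t ^ i)⁻¹ = s := by
    intro s hs hs'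
    by_contra hne
    push Not at hne
    set S : A := ⟨s, h.Q_norm_P hs⟩ with hS
    have hf1 : ((f S1 : P) : G) ≠ 1 := by
      intro e
      have : g S1 S1 = 1 := by
        show NU (φ S1⁻¹ (f S1)) = 1
        rw [show f S1 = 1 from Subtype.ext e, map_one, map_one]
      exact hXU ((hgone S1 hs1Q hs11).symm.trans this)
    have hz : zpowers ((f S1 : P) : G) = zpowers v := by
      refine eq_of_le_of_card_ge (zpowers_le.mpr (hfC S1)) ?_
      rw [Nat.card_zpowers, Nat.card_zpowers, hvp,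
        orderOf_eq_prime (h.P_exp _ (f S1).2) hf1]
    obtain ⟨m, hm⟩ := mem_zpowers_iff.mp (hz.ge (hfC S))
    have hfS : f S = f S1 ^ m := Subtype.ext (by rw [← hm]; simp)
    have h0 : g S S1 = 1 := hgzero S S1 hs hs1Q fun i hi => hne i hi
    have h1 : g S S = g S S1 ^ m := by
      show NU (φ S⁻¹ (f S)) = NU (φ S⁻¹ (f S1)) ^ m
      rw [hfS, map_zpow, map_zpow]
    rw [h0, one_zpow, hgone S hs hs'] at h1
    exact hXU h1
  have hcardQ : Nat.card Q = r + 1 := by
    let ψ : Option (Fin r) → Q := fun o => o.elim 1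
      (fun i => ⟨t ^ (i : ℕ) * s1 * (t ^ (i : ℕ))⁻¹, hconjQ i s1 hs1Q⟩)
    have hne1 : ∀ i : ℕ, t ^ i * s1 * (t ^ i)⁻¹ ≠ 1 := fun i e =>
      hs11 (by simpa using (mul_inv_eq_one.mp e))
    have hinj : ∀ i j : Fin r, (i : ℕ) < j →
        t ^ (i : ℕ) * s1 * (t ^ (i : ℕ))⁻¹ ≠ t ^ (j : ℕ) * s1 * (t ^ (j : ℕ))⁻¹ := by
      intro i j hij e
      refine hfree s1 hs1Q hs11 ((j : ℕ) - i) (by omega) (by omega) ?_
      have e2 : t ^ (j : ℕ) = t ^ (i : ℕ) * t ^ ((j : ℕ) - i) := by
        rw [← pow_add]; congr 1; omega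
      rw [e2] at e
      have e3 := congrArg (fun z => (t ^ (i : ℕ))⁻¹ * z * t ^ (i : ℕ)) e
      simp only [mul_inv_rev, mul_assoc, inv_mul_cancel_left] at e3
      simpa [mul_assoc] using e3.symm
    have hbij : Function.Bijective ψ := by
      constructor
      · rintro (_ | i) (_ | j) e
        · rfl
        · exact absurd (congrArg Subtype.val e).symm (hne1 j)
        · exact absurd (congrArg Subtype.val e) (hne1 i)
        · rcases lt_trichotomy (i : ℕ) j with hl | hl | hl
          · exact absurd (congrArg Subtype.val e) (hinj i j hl)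
          · exact congrArg some (Fin.ext hl)
          · exact absurd (congrArg Subtype.val e).symm (hinj j i hl)
      · rintro ⟨s, hs⟩
        by_cases hs' : s = 1
        · exact ⟨none, Subtype.ext hs'.symm⟩
        · obtain ⟨i, hi, he⟩ := horb s hs hs'
          exact ⟨some ⟨i, hi⟩, Subtype.ext he⟩
    rw [← Nat.card_eq_of_bijective ψ hbij]
    simp
  have h1 := odd_card_of_isPGroup hp.out h.hp2 h.Q_isPGroup
  rw [hcardQ] at h1
  have h2 := hr.out.odd_of_ne_two h.hr2
  rw [Nat.odd_iff] at h1 h2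
  omega

end Config

end Cfsg.Agent.OddOrder.BG3
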