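import Cfsg.Agent.OddOrder.BG3.PLengthTools
import Cfsg.Agent.OddOrder.BG3.PLengthFinal
import Cfsg.Agent.Coprime.Generation

/-!
BG 3.6: if `R₀ ≤ R` has prime order and `C_H(R₀)` is a Z-group, `[H, R]` has `p`-length one
(solvable groups of odd order, `H ⋊ R` coprime).
-/

set_option autoImplicit false

universe u

namespace Cfsg.Agent.OddOrder.BG3

open Subgroup
open scoped commutatorElement

/-- The statement for groups of order `n`. -/
def Stmt (p : ℕ) (n : ℕ) : Prop :=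
  ∀ (G : Type u) [Group G] [Finite G], Nat.card G = n → Group.IsSolvable G → Odd (Nat.card G) →
    ∀ (H R R₀ : Subgroup G), H.Normal → H ⊔ R = ⊤ → (Nat.card R).Coprime (Nat.card H) → R₀ ≤ R →
      (Nat.card R₀).Prime → IsZGroup ↥(H ⊓ centralizer (R₀ : Set G)) →
      Cfsg.PLengthLE p 1 ↥⁅H, R⁆

variable {G : Type u} [Group G] [Finite G] {p : ℕ} [hp : Fact p.Prime]

theorem card_eq_mul_relIndex {N Y : Subgroup G} (h : N ≤ Y) :
    Nat.card N * N.relIndex Y = Nat.card Y := by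
  rw [← relIndex_bot_left, ← relIndex_bot_left, relIndex_mul_relIndex _ _ _ bot_le h]

omit hp in
theorem pLengthLE_congr_le {A B : Type u} [Group A] [Finite A] [Group B] (e : A ≃* B) {k : ℕ}
    (h : Cfsg.PLengthLE p k A) : Cfsg.PLengthLE p k B :=
  Cores.pLengthLE_of_surjective h (f := e.toMonoidHom) e.surjective

/-- Induction applied to invariant subgroups. -/
theorem ih_sub {n : ℕ} (IH : ∀ m < n, Stmt.{u} p m) (hn : Nat.card G = n) [Group.IsSolvable G]
    (hodd : Odd (Nat.card G)) {H R R₀ H₁ R₁ : Subgroup G} [H.Normal]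
    (hcop : (Nat.card R).Coprime (Nat.card H)) (hH₁ : H₁ ≤ H) (hR₁ : R₁ ≤ R) (hR₀ : R₀ ≤ R₁)
    (hpr : (Nat.card R₀).Prime) (hZ : IsZGroup ↥(H ⊓ centralizer (R₀ : Set G)))
    (hnorm : R₁ ≤ normalizer (H₁ : Set G)) (hne : H₁ ≠ H ∨ R₁ ≠ R) :
    Cfsg.PLengthLE p 1 ↥⁅H₁, R₁⁆ := by
  set G₁ := H₁ ⊔ R₁ with hG₁
  have hHR : H ⊓ R = ⊥ := Coprime.inf_eq_bot hcop.symm
  have hcard : Nat.card G₁ = Nat.card H₁ * Nat.card R₁ :=
    Coprime.card_sup hnorm (eq_bot_iff.mpr ((inf_le_inf hH₁ hR₁).trans hHR.le))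
  have hlt : Nat.card G₁ < n := by
    have h1 : Nat.card H₁ ≤ Nat.card H := card_le_of_le hH₁
    have h2 : Nat.card R₁ ≤ Nat.card R := card_le_of_le hR₁
    have h3 : Nat.card H * Nat.card R ≤ n := by
      rw [← hn, ← Coprime.card_sup (le_top.trans (normalizer_eq_top (H := H)).ge) hHR]
      exact card_le_card_group _
    refine lt_of_lt_of_le ?_ h3
    rw [hcard]
    rcases hne with h | h
    · exact Nat.mul_lt_mul_of_lt_of_le
        (lt_of_le_of_ne h1 fun e => h (eq_of_le_of_card_ge hH₁ e.ge)) h2 Nat.card_pos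
    · exact Nat.mul_lt_mul_of_le_of_lt h1
        (lt_of_le_of_ne h2 fun e => h (eq_of_le_of_card_ge hR₁ e.ge)) Nat.card_pos
  have hHG : H₁ ≤ G₁ := le_sup_left
  have hRG : R₁ ≤ G₁ := le_sup_right
  have hmapc : (⁅H₁.subgroupOf G₁, R₁.subgroupOf G₁⁆).map G₁.subtype = ⁅H₁, R₁⁆ := by
    rw [map_commutator, map_subgroupOf_eq_of_le hHG, map_subgroupOf_eq_of_le hRG]
  have hres := IH _ hlt G₁ rfl inferInstance (hodd.of_dvd_nat (card_subgroup_dvd_card _))
    (H₁.subgroupOf G₁) (R₁.subgroupOf G₁) (R₀.subgroupOf G₁) ?_ ?_ ?_ ?_ ?_ ?_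
  · exact pLengthLE_congr_le
      ((equivMapOfInjective _ _ G₁.subtype_injective).trans (MulEquiv.subgroupCongr hmapc)) hres
  · rw [normal_subgroupOf_iff_le_normalizer hHG]
    exact sup_le le_normalizer hnorm
  · rw [← subgroupOf_sup hHG hRG, subgroupOf_self]
  · rw [Nat.card_congr (subgroupOfEquivOfLe hHG).toEquiv, Nat.card_congr (subgroupOfEquivOfLe hRG).toEquiv]
    exact (hcop.coprime_dvd_left (card_dvd_of_le hR₁)).coprime_dvd_right (card_dvd_of_le hH₁)
  · exact comap_mono hR₀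
  · rwa [Nat.card_congr (subgroupOfEquivOfLe (hR₀.trans hRG)).toEquiv]
  · have hle : (H₁.subgroupOf G₁ ⊓ centralizer (R₀.subgroupOf G₁ : Set G₁)).map G₁.subtype ≤
        H ⊓ centralizer (R₀ : Set G) := by
      rintro _ ⟨x, hx, rfl⟩
      refine ⟨hH₁ hx.1, mem_centralizer_iff.mpr fun r hr => ?_⟩
      exact congrArg Subtype.val (mem_centralizer_iff.mp hx.2 ⟨r, hRG (hR₀ hr)⟩ hr)
    haveI := hZ
    exact IsZGroup.of_injective
      (f := (inclusion hle).comp (equivMapOfInjective _ _ G₁.subtype_injective).toMonoidHom)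
      ((inclusion_injective hle).comp (MulEquiv.injective _))

/-- Induction applied to quotients. -/
theorem ih_quot {n : ℕ} (IH : ∀ m < n, Stmt.{u} p m) (hn : Nat.card G = n) [Group.IsSolvable G]
    (hodd : Odd (Nat.card G)) {H R R₀ N : Subgroup G} [H.Normal] [N.Normal] (hN : N ≠ ⊥) (hNH : N ≤ H)
    (htop : H ⊔ R = ⊤) (hcop : (Nat.card R).Coprime (Nat.card H)) (hR₀ : R₀ ≤ R)
    (hpr : (Nat.card R₀).Prime) (hZ : IsZGroup ↥(H ⊓ centralizer (R₀ : Set G)))
    (hHR : ⁅H, R⁆ = H) : Cfsg.PLengthLE p 1 ↥(H.map (QuotientGroup.mk' N)) := by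
  set π := QuotientGroup.mk' N with hπ
  have hs : Function.Surjective π := QuotientGroup.mk'_surjective N
  have hlt : Nat.card (G ⧸ N) < n := by
    rw [← hn, card_eq_card_quotient_mul_card_subgroup N]
    refine lt_mul_of_one_lt_right Nat.card_pos ?_
    exact Finite.one_lt_card_iff_nontrivial.mpr ((nontrivial_iff_ne_bot N).mpr hN)
  have hres := IH _ hlt (G ⧸ N) rfl inferInstance
    (hodd.of_dvd_nat (card_quotient_dvd_card N)) (H.map π) (R.map π) (R₀.map π)
    ((inferInstance : H.Normal).map _ hs) ?_ ?_ (map_mono hR₀) ?_ ?_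
  · rwa [← map_commutator, hHR] at hres
  · rw [← Subgroup.map_sup, htop, map_top_of_surjective _ hs]
  · exact (hcop.coprime_dvd_left (card_map_dvd _ π)).coprime_dvd_right (card_map_dvd _ π)
  · have hd : R₀ ⊓ N = ⊥ := eq_bot_iff.mpr ((inf_le_inf hR₀ hNH).trans (Coprime.inf_eq_bot hcop).le)
    have hinj : Function.Injective (π.subgroupMap R₀) := by
      rw [← MonoidHom.ker_eq_bot_iff, eq_bot_iff]
      intro x hx
      exact mem_bot.mpr (Subtype.ext (mem_bot.mp (hd.le
        ⟨x.2, (QuotientGroup.eq_one_iff (x : G)).mp (congrArg Subtype.val hx)⟩)))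
    rwa [← Nat.card_eq_of_bijective _ ⟨hinj, π.subgroupMap_surjective R₀⟩]
  · haveI := hZ
    have hle : H.map π ⊓ centralizer (R₀.map π : Set (G ⧸ N)) ≤
        (H ⊓ centralizer (R₀ : Set G)).map π := by
      rintro _ ⟨⟨h, hh, rfl⟩, hc⟩
      obtain ⟨c, hc', hcn⟩ := Coprime.exists_centralizer_mem_coset (A := R₀) (K := H)
        (le_top.trans (normalizer_eq_top (H := H)).ge) (hcop.coprime_dvd_left (card_dvd_of_le hR₀))
        (Or.inr inferInstance) hNH (le_top.trans (normalizer_eq_top (H := N)).ge) hh (fun a ha => by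
          refine (QuotientGroup.eq_one_iff _).mp ?_
          show π (h⁻¹ * (a * h * a⁻¹)) = 1
          rw [map_mul, map_mul, map_mul, map_inv, map_inv,
            mem_centralizer_iff.mp hc (π a) ⟨a, ha, rfl⟩, mul_inv_cancel_right, inv_mul_cancel])
      refine ⟨c, hc', ?_⟩
      have h1 : π (h⁻¹ * c) = 1 := (QuotientGroup.eq_one_iff _).mpr hcn
      rw [map_mul, map_inv, inv_mul_eq_one] at h1
      exact h1.symm
    haveI : IsZGroup ↥((H ⊓ centralizer (R₀ : Set G)).map π) :=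
      IsZGroup.of_surjective (π.subgroupMap_surjective _)
    exact IsZGroup.of_injective (inclusion_injective hle)

/-- The induction step, after all reductions. -/
theorem step {n : ℕ} (IH : ∀ m < n, Stmt.{u} p m) : Stmt.{u} p n := by
  intro G _ _ hn hsol hodd H R R₀ hHn htop hcop hR₀ hpr hZ
  classical
  have hRH : R ≤ normalizer (H : Set G) := le_top.trans (normalizer_eq_top (H := H)).ge
  -- `[H, R] = H`
  by_cases hHR : ⁅H, R⁆ = H
  swap
  · have h1 := ih_sub IH hn hodd hcop (Coprime.commutator_le_left_of_normalizer hRH) le_rfl hR₀ hpr hZ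
      (normalizer_commutator_ge_right H R) (Or.inl hHR)
    rwa [Coprime.commutator_commutator_eq hRH hcop (Or.inr inferInstance)] at h1
  rw [hHR]
  by_contra hbad
  -- `O_{p'}(H) = 1`
  have hO : Cfsg.pPrimeCore p H = ⊥ := by
    by_contra hne
    haveI : (Cfsg.pPrimeCore p H).Characteristic := Cores.pPrimeCore_characteristic
    set N := (Cfsg.pPrimeCore p H).map H.subtype with hN
    have hN0 : N ≠ ⊥ := by
      rwa [hN, ne_eq, Subgroup.map_eq_bot_iff, H.ker_subtype, le_bot_iff]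
    refine hbad (pLengthLE_of_map (N := N) ?_ (ih_quot IH hn hodd hN0 (map_subtype_le _) htop hcop hR₀ hpr hZ hHR))
    rw [hN, card_map_of_injective H.subtype_injective]
    exact Cores.coprime_card_pPrimeCore
  -- `P = O_p(H)`
  haveI : (Cfsg.pCore p H).Characteristic := Cores.pCore_characteristic
  set P := (Cfsg.pCore p H).map H.subtype with hPdef
  have hPn : P.Normal := inferInstance
  have hPH : P ≤ H := map_subtype_le _
  have hPp : IsPGroup p P := Cores.pCore_isPGroup.map _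
  have hmax : ∀ D : Subgroup G, D.Normal → D ≤ H → IsPGroup p D → D ≤ P := by
    intro D hD hDH hDp
    rw [← map_subgroupOf_eq_of_le hDH]
    exact map_mono (Cores.le_pCore hDp.comap_subtype)
  have hcent : H ⊓ centralizer (P : Set G) ≤ P := by
    rintro x ⟨hxH, hxC⟩
    refine ⟨⟨x, hxH⟩, ?_, rfl⟩
    have hF : Cfsg.fittingSubgroup H = Cfsg.pCore p H := by
      refine le_antisymm ?_ (Cores.pCore_le_fittingSubgroup hp.out)
      rw [Cores.iSup_pCore_eq_fittingSubgroup]
      refine (Cores.iSup_pCore_le_sup p).trans ?_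
      rw [hO, bot_sup_eq]
    rw [← hF]
    refine Cores.centralizer_fittingSubgroup_le (mem_centralizer_iff.mpr fun y hy => Subtype.ext ?_)
    rw [hF] at hy
    exact mem_centralizer_iff.mp hxC y ⟨y, hy, rfl⟩
  have hP0 : P ≠ ⊥ := by
    intro hb
    have h1 : H = ⊥ := eq_bot_iff.mpr fun x hx => hb ▸ hcent ⟨hx, mem_centralizer_iff.mpr fun y hy => by
      rw [hb] at hy; rw [mem_bot.mp hy, one_mul, mul_one]⟩
    exact hbad (H71.pLengthLE_of_card_eq_one (by rw [h1, card_bot]) 1)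
  -- `P` is elementary abelian
  haveI : (frattini P).Characteristic := frattini_characteristic
  set Φ := (frattini P).map P.subtype with hΦ
  have hΦn : Φ.Normal := inferInstance
  have hΦ1 : Φ = ⊥ := by
    by_contra hne
    refine hbad (pLengthLE_of_quotient (X := Φ) (map_subtype_le _) hPH hPp hmax hcent ?_
      (ih_quot IH hn hodd hne ((map_subtype_le _).trans hPH) htop hcop hR₀ hpr hZ hHR))
    intro L _ hLc _ htr
    refine Coprime.le_centralizer_of_frattini (le_top.trans (normalizer_eq_top (H := P)).ge) ?_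
      fun a ha k hk => htr a ha k hk
    obtain ⟨k, hk⟩ := IsPGroup.iff_card.mp (hPp.to_subgroup (frattini P))
    rw [hk]
    exact hLc.pow_right k
  have hPc : IsMulCommutative P := ⟨⟨fun a b => commutatorElement_eq_one_iff_mul_comm.mp
    (Subtype.ext (mem_bot.mp (hΦ1.le ⟨⁅a, b⁆, PGroups.commutator_le_frattini hPp
      (commutator_mem_commutator (mem_top a) (mem_top b)), rfl⟩)))⟩⟩
  have hPe : ∀ x ∈ P, x ^ p = 1 := fun x hx =>
    mem_bot.mp (hΦ1.le ⟨⟨x, hx⟩ ^ p, PGroups.pow_mem_frattini hPp _, rfl⟩)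
  -- the preimage of `O_{p'}(H / P)`
  set Y := oprime p H P with hY
  have hYn : Y.Normal := oprime_normal
  have hPY : P ≤ Y := le_oprime hPH
  have hYH : Y ≤ H := inf_le_left
  have hYc : (P.relIndex Y).Coprime p := relIndex_oprime_coprime
  have hRY : R ≤ normalizer (Y : Set G) := le_top.trans (normalizer_eq_top (H := Y)).ge
  obtain ⟨K, hKhall, hRK⟩ := Coprime.exists_invariant_hall hRY
    (hcop.coprime_dvd_right (card_dvd_of_le hYH)) inferInstance {l : ℕ | l ≠ p}
  have hKhall' := hKhall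
  obtain ⟨hKY, hKc, hKi⟩ := hKhall'
  have hKH : K ≤ H := hKY.trans hYH
  have hKcop : (Nat.card K).Coprime p := by
    rw [Nat.coprime_comm, hp.out.coprime_iff_not_dvd]
    exact fun hd => hKc p hp.out hd rfl
  have hPK : P ⊓ K = ⊥ := Cores.disjoint_of_isPGroup_of_coprime hPp hKcop
  have hPn' : ∀ W : Subgroup G, W ≤ normalizer (P : Set G) := fun W =>
    le_top.trans (normalizer_eq_top (H := P)).ge
  have hYeq : P ⊔ K = Y := by
    refine eq_of_le_of_card_ge (sup_le hPY hKY) ?_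
    rw [Coprime.card_sup (hPn' K) hPK, ← card_eq_mul_relIndex hPY]
    refine Nat.mul_le_mul_left _ (Nat.le_of_dvd Nat.card_pos ?_)
    have e3 : (K.relIndex Y).Coprime (P.relIndex Y) := Nat.coprime_of_dvd fun l hl h1 h2 => by
      by_cases hlp : l = p
      · subst hlp
        exact (hp.out.coprime_iff_not_dvd.mp hYc.symm) h2
      · exact hKi l hl hlp h1
    refine e3.symm.dvd_of_dvd_mul_right ?_
    rw [card_eq_mul_relIndex hKY, ← card_eq_mul_relIndex hPY]
    exact dvd_mul_left _ _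
  -- Frattini argument
  set N := H ⊓ normalizer (K : Set G) with hN
  have hNH : N ≤ H := inf_le_left
  have hKN : K ≤ N := le_inf hKH le_normalizer
  have hRN : R ≤ normalizer (N : Set G) := fun r hr =>
    inf_normalizer_le_normalizer_inf ⟨hRH hr, le_normalizer (hRK hr)⟩
  have hfrat : ∀ h ∈ H, ∃ a ∈ P, ∃ m ∈ N, h = a * m := by
    intro h hh
    have hhY : h ∈ normalizer (Y : Set G) := (normalizer_eq_top (H := Y)).ge (mem_top h)
    obtain ⟨y, hy, hye⟩ := Coprime.exists_conj_hallOf inferInstance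
      (Coprime.isPiHallOf_map_conj hhY hKhall) hKhall
    have hyh : y * h ∈ normalizer (K : Set G) := Coprime.mem_normalizer_of_map_conj (by
      rw [← Coprime.map_conj_map_conj]; exact hye)
    obtain ⟨a, ha, k, hk, hak⟩ := (Coprime.mem_sup_iff (hPn' K)).mp (hYeq.ge (inv_mem hy))
    refine ⟨a, ha, k * (y * h), ⟨?_, mul_mem (le_normalizer hk) hyh⟩, ?_⟩
    · exact mul_mem (hKH hk) (mul_mem (hYH hy) hh)
    · rw [← mul_assoc, hak]; group
  -- `C_P(K) = 1`
  have hfixK : P ⊓ centralizer (K : Set G) = ⊥ := by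
    by_contra hne
    set X := P ⊓ centralizer (K : Set G) with hX
    have hXn : X.Normal := by
      rw [← normalizer_eq_top_iff, eq_top_iff, ← htop]
      refine sup_le ?_ fun r hr =>
        inf_normalizer_le_normalizer_inf ⟨hPn' R hr, Config.mem_normalizer_centralizer (hRK hr)⟩
      intro h hh
      obtain ⟨a, ha, m, hm, rfl⟩ := hfrat h hh
      refine mul_mem ?_ (inf_normalizer_le_normalizer_inf
        ⟨hPn' N hm, Config.mem_normalizer_centralizer hm.2⟩)
      refine centralizer_le_normalizer (s := (X : Set G)) (mem_centralizer_iff.mpr fun x hx => ?_)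
      exact congrArg Subtype.val (hPc.is_comm.comm (⟨x, hx.1⟩ : P) ⟨a, ha⟩)
    refine hbad (pLengthLE_of_quotient (X := X) inf_le_left hPH hPp hmax hcent ?_
      (ih_quot IH hn hodd hne (inf_le_left.trans hPH) htop hcop hR₀ hpr hZ hHR))
    intro L hLH hLc hLn htr
    have hLY : L ≤ Y := by
      refine le_sup_right.trans (le_oprime_of (P ⊔ L) (sup_le hPH hLH) hLn ?_)
      have hd : P ⊓ L = ⊥ := Cores.disjoint_of_isPGroup_of_coprime hPp hLc
      have h1 : P.relIndex (P ⊔ L) = Nat.card L := Nat.eq_of_mul_eq_mul_left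
        (Nat.card_pos (α := P)) (by rw [card_eq_mul_relIndex le_sup_left, Coprime.card_sup (hPn' L) hd])
      rwa [h1]
    obtain ⟨L', hL', -, hLL'⟩ := Coprime.exists_invariant_hall_ge (A := (⊥ : Subgroup G)) (K := Y)
      bot_le (by rw [card_bot]; exact Nat.coprime_one_left _) inferInstance hLY bot_le
      (π := {l : ℕ | l ≠ p}) (fun l hl hd hlp => hl.ne_one (Nat.eq_one_of_dvd_coprimes
        hLc hd (hlp ▸ dvd_rfl)))
    obtain ⟨y, hy, hye⟩ := Coprime.exists_conj_hallOf inferInstance hL' hKhall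
    have hconj : ∀ l ∈ L, y * l * y⁻¹ ∈ K := fun l hl => hye ▸ ⟨l, hLL' hl, rfl⟩
    obtain ⟨a, ha, k, hk, rfl⟩ := (Coprime.mem_sup_iff (hPn' K)).mp (hYeq.ge hy)
    have hLX : ∀ l ∈ L, ∀ x ∈ X, l * x = x * l := by
      intro l hl x hx
      have hy' : (a * k) * x * (a * k)⁻¹ = x := by
        have e1 : k * x * k⁻¹ = x := by
          rw [mem_centralizer_iff.mp hx.2 k hk, mul_inv_cancel_right]
        calc (a * k) * x * (a * k)⁻¹ = a * (k * x * k⁻¹) * a⁻¹ := by group
          _ = a * x * a⁻¹ := by rw [e1]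
          _ = x := by
            rw [show a * x = x * a from congrArg Subtype.val (hPc.is_comm.comm (⟨a, ha⟩ : P) ⟨x, hx.1⟩),
              mul_inv_cancel_right]
      have e2 := mem_centralizer_iff.mp hx.2 _ (hconj l hl)
      calc l * x = (a * k)⁻¹ * ((a * k * l * (a * k)⁻¹) * ((a * k) * x * (a * k)⁻¹)) * (a * k) := by group
        _ = (a * k)⁻¹ * (((a * k) * x * (a * k)⁻¹) * (a * k * l * (a * k)⁻¹)) * (a * k) := by
          rw [hy', e2]
        _ = x * l := by group
    have hLX' : L ≤ normalizer ((X : Subgroup G) : Set G) := le_top.trans (normalizer_eq_top (H := X)).ge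
    rw [le_centralizer_iff]
    intro x hx
    obtain ⟨c, hc, hcx⟩ := Coprime.exists_centralizer_mem_coset (A := L) (K := P) (hPn' L)
      (by obtain ⟨e, he⟩ := IsPGroup.iff_card.mp hPp; rw [he]; exact hLc.pow_right e)
      (Or.inl inferInstance) inf_le_left hLX' hx (fun l hl => by
        have h1 := htr l hl x hx
        rw [show x⁻¹ * (l * x * l⁻¹) = x⁻¹ * ⁅l, x⁆ * x⁻¹⁻¹ by
          simp [commutatorElement_def, mul_assoc]]
        exact hXn.conj_mem _ h1 x⁻¹)
    refine mem_centralizer_iff.mpr fun l hl => ?_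
    have e1 : l * (x⁻¹ * c) = (x⁻¹ * c) * l := hLX l hl _ hcx
    have e2 : l * c = c * l := mem_centralizer_iff.mp hc.2 l hl
    have e3 : Commute l x⁻¹ := by
      have := Commute.mul_right (show Commute l (x⁻¹ * c) from e1) (Commute.inv_right (show Commute l c from e2))
      simpa using this
    exact (by simpa using e3.inv_right : Commute l x).eq
  have hPN : P ⊓ N = ⊥ := by
    refine eq_bot_iff.mpr fun a ha => hfixK ▸ ⟨ha.1, mem_centralizer_iff.mpr fun k hk => ?_⟩
    refine commutatorElement_eq_one_iff_mul_comm.mp (mem_bot.mp (hPK.le ⟨?_, ?_⟩))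
    · rw [commutatorElement_def]
      exact P.mul_mem (hPn.conj_mem a ha.1 k) (P.inv_mem ha.1)
    · rw [show ⁅k, a⁆ = k * (a * k⁻¹ * a⁻¹) by simp [commutatorElement_def, mul_assoc]]
      exact K.mul_mem hk ((mem_normalizer_iff.mp ha.2.2 _).mp (K.inv_mem hk))
  have hCNK : ∀ m ∈ N, m ∈ centralizer (K : Set G) → m ∈ K := by
    intro m hm hmc
    have h1 : m ∈ Y := by
      refine mem_oprime_of_centralizes hmax hPp (hNH hm) fun y hy => ?_
      obtain ⟨a, ha, k, hk, rfl⟩ := (Coprime.mem_sup_iff (hPn' K)).mp (hYeq.ge hy)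
      have e1 : m * k * m⁻¹ = k := by rw [← mem_centralizer_iff.mp hmc k hk, mul_inv_cancel_right]
      have e2 : ⁅m, a * k⁆ = m * a * m⁻¹ * a⁻¹ := by
        calc ⁅m, a * k⁆ = m * a * m⁻¹ * (m * k * m⁻¹) * k⁻¹ * a⁻¹ := by
              simp only [commutatorElement_def]; group
          _ = m * a * m⁻¹ * a⁻¹ := by rw [e1]; group
      rw [e2]
      exact P.mul_mem (hPn.conj_mem a ha m) (P.inv_mem ha)
    obtain ⟨a, ha, k, hk, hak⟩ := (Coprime.mem_sup_iff (hPn' K)).mp (hYeq.ge h1)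
    have haN : a ∈ N := by
      have : m * k⁻¹ ∈ N := mul_mem hm (hKN (K.inv_mem hk))
      rwa [← hak, mul_inv_cancel_right] at this
    rw [← hak, mem_bot.mp (hPN.le ⟨ha, haN⟩), one_mul]
    exact hk
  have hNK : N ≤ normalizer (K : Set G) := inf_le_right
  -- `[N, R] = N`
  have hNR : ⁅N, R⁆ = N := by
    refine le_antisymm (Coprime.commutator_le_left_of_normalizer hRN) fun x hx => ?_
    have hle : H ≤ P ⊔ ⁅N, R⁆ := by
      conv_lhs => rw [← hHR]
      refine commutator_le.mpr fun h hh r hr => ?_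
      obtain ⟨a, ha, m, hm, rfl⟩ := hfrat h hh
      rw [show ⁅a * m, r⁆ = a * ⁅m, r⁆ * (r * a⁻¹ * r⁻¹) by simp only [commutatorElement_def]; group]
      exact mul_mem (mul_mem (mem_sup_left ha) (mem_sup_right (commutator_mem_commutator hm hr)))
        (mem_sup_left (hPn.conj_mem _ (P.inv_mem ha) r))
    obtain ⟨a, ha, z, hz, hazx⟩ := (Coprime.mem_sup_iff (hPn' ⁅N, R⁆)).mp (hle (hNH hx))
    have hzN : z ∈ N := Coprime.commutator_le_left_of_normalizer hRN hz
    have haN : a ∈ N := by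
      have : x * z⁻¹ ∈ N := mul_mem hx (inv_mem hzN)
      rwa [← hazx, mul_inv_cancel_right] at this
    rw [← hazx, mem_bot.mp (hPN.le ⟨ha, haN⟩), one_mul]
    exact hz
  have hNne : N ≠ H := fun he => hP0 (le_bot_iff.mp ((le_inf le_rfl (he ▸ hPH)).trans hPN.le))
  have hNpl : Cfsg.PLengthLE p 1 N := by
    have := ih_sub IH hn hodd hcop hNH le_rfl hR₀ hpr hZ hRN (Or.inl hNne)
    rwa [hNR] at this
  -- a Sylow subgroup of `N`
  haveI : Group.IsSolvable N := inferInstance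
  obtain ⟨Qs, hRQ⟩ := Coprime.exists_invariant_sylow (A := R) (K := N) hRN
    (hcop.coprime_dvd_right (card_dvd_of_le hNH)) (Or.inr inferInstance) p
  set Q := (Qs : Subgroup N).map N.subtype with hQdef
  have hQN : Q ≤ N := map_subtype_le _
  have hQp : IsPGroup p Q := Qs.isPGroup'.map _
  have hQK : Q ⊓ K = ⊥ := Cores.disjoint_of_isPGroup_of_coprime hQp hKcop
  have hON : ∀ z : N, z ∈ Cfsg.pPrimeCore p N → (z : G) ∈ K := by
    intro z hz
    set Z := (Cfsg.pPrimeCore p N).map N.subtype with hZd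
    have hZN : Z ≤ N := map_subtype_le _
    have hZc : (Nat.card Z).Coprime p := by
      rw [hZd, card_map_of_injective N.subtype_injective]; exact Cores.coprime_card_pPrimeCore
    have hPZ : P ⊔ Z ≤ H := sup_le hPH (hZN.trans hNH)
    have hnZ : H ≤ normalizer ((P ⊔ Z : Subgroup G) : Set G) := by
      intro h hh
      obtain ⟨a, ha, m, hm, rfl⟩ := hfrat h hh
      refine mul_mem (le_normalizer (mem_sup_left ha)) (mem_normalizer_of_forall ?_ ?_)
      · intro x hx
        have hmZ := mem_normalizer_map_char (L := N) (C := Cfsg.pPrimeCore p N)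
          Cores.pPrimeCore_characteristic (le_normalizer hm)
        obtain ⟨b, hb, w, hw, rfl⟩ := (Coprime.mem_sup_iff (hPn' Z)).mp hx
        rw [show m * (b * w) * m⁻¹ = (m * b * m⁻¹) * (m * w * m⁻¹) by group]
        exact mul_mem (mem_sup_left (hPn.conj_mem b hb m))
          (mem_sup_right ((mem_normalizer_iff.mp hmZ w).mp hw))
      · intro x hx
        have hmZ := mem_normalizer_map_char (L := N) (C := Cfsg.pPrimeCore p N)
          Cores.pPrimeCore_characteristic (le_normalizer (N.inv_mem hm))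
        obtain ⟨b, hb, w, hw, rfl⟩ := (Coprime.mem_sup_iff (hPn' Z)).mp hx
        rw [show m⁻¹ * (b * w) * m = (m⁻¹ * b * m⁻¹⁻¹) * (m⁻¹ * w * m⁻¹⁻¹) by group]
        exact mul_mem (mem_sup_left (hPn.conj_mem b hb m⁻¹))
          (mem_sup_right ((mem_normalizer_iff.mp hmZ w).mp hw))
    have h1 : (z : G) ∈ Y := by
      refine le_oprime_of (P ⊔ Z) hPZ hnZ ?_ (mem_sup_right ⟨z, hz, rfl⟩)
      have hd : P ⊓ Z = ⊥ := Cores.disjoint_of_isPGroup_of_coprime hPp hZc
      have h1 : P.relIndex (P ⊔ Z) = Nat.card Z := Nat.eq_of_mul_eq_mul_left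
        (Nat.card_pos (α := P)) (by rw [card_eq_mul_relIndex le_sup_left, Coprime.card_sup (hPn' Z) hd])
      rwa [h1]
    obtain ⟨a, ha, k, hk, hak⟩ := (Coprime.mem_sup_iff (hPn' K)).mp (hYeq.ge h1)
    have haN : a ∈ N := by
      have : (z : G) * k⁻¹ ∈ N := mul_mem z.2 (hKN (K.inv_mem hk))
      rwa [← hak, mul_inv_cancel_right] at this
    rw [← hak, mem_bot.mp (hPN.le ⟨ha, haN⟩), one_mul]
    exact hk
  have hNfrat : ∀ x ∈ N, ∃ d ∈ N ⊓ normalizer (Q : Set G), ∃ k ∈ K, d * k = x := by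
    intro x hx
    obtain ⟨g, hg, m, hm, hgm⟩ := H72.PLengthOne.exists_mul hNpl Qs ⟨x, hx⟩
    refine ⟨g, ⟨g.2, mem_normalizer_of_forall ?_ ?_⟩, m, hON m hm, congrArg Subtype.val hgm⟩
    · rintro _ ⟨y, hy, rfl⟩
      exact ⟨g * y * g⁻¹, (mem_normalizer_iff.mp hg y).mp hy, rfl⟩
    · rintro _ ⟨y, hy, rfl⟩
      exact ⟨g⁻¹ * y * g⁻¹⁻¹, (mem_normalizer_iff.mp (inv_mem hg) y).mp hy, by simp⟩
  have hQ0 : Q ≠ ⊥ := by
    intro hb
    have hNc : (Nat.card N).Coprime p := by
      rw [Nat.coprime_comm, hp.out.coprime_iff_not_dvd]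
      intro hd
      have h1 : Qs.toSubgroup = ⊥ := by
        rwa [hQdef, Subgroup.map_eq_bot_iff, N.ker_subtype, le_bot_iff] at hb
      exact Qs.not_dvd_index (by rwa [h1, index_bot])
    have hHeq : P ⊔ N = H := le_antisymm (sup_le hPH hNH) fun h hh => by
      obtain ⟨a, ha, m, hm, rfl⟩ := hfrat h hh
      exact mul_mem (mem_sup_left ha) (mem_sup_right hm)
    have hcard : Nat.card H = Nat.card P * Nat.card N := by
      rw [← hHeq, Coprime.card_sup (hPn' N) hPN]
    refine hbad (pLengthLE_one_of_pCore ?_)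
    have h1 := card_eq_card_quotient_mul_card_subgroup (Cfsg.pCore p H)
    rw [hcard, ← card_map_of_injective H.subtype_injective, ← hPdef, mul_comm] at h1
    rw [← Nat.eq_of_mul_eq_mul_right (Nat.card_pos (α := P)) h1]
    exact hNc
  -- `R` moves `Q`
  have hQR : ¬ Q ≤ centralizer (R : Set G) := by
    intro hle
    set D := N ⊓ normalizer (Q : Set G) with hD
    have hDQ : ⁅⁅D, R⁆, Q⁆ = ⊥ := by
      refine commutator_commutator_eq_bot_of_rotate ?_ ?_
      · rw [commutator_eq_bot_iff_le_centralizer.mpr (le_centralizer_iff.mp hle), commutator_bot_left]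
      · refine commutator_eq_bot_iff_le_centralizer.mpr (le_trans ?_ hle)
        exact Coprime.commutator_le_left_of_normalizer inf_le_right
    have hcq : ⁅D, R⁆ ≤ centralizer (Q : Set G) := commutator_eq_bot_iff_le_centralizer.mp hDQ
    have hKQn : ∀ x ∈ N, ∀ r ∈ R, ⁅x, r⁆ ∈ K ⊔ ⁅D, R⁆ := by
      intro x hx r hr
      obtain ⟨d, hd, k, hk, rfl⟩ := hNfrat x hx
      have hdK : d ∈ normalizer (K : Set G) := hNK hd.1
      rw [show ⁅d * k, r⁆ = (d * (k * (r * k⁻¹ * r⁻¹)) * d⁻¹) * ⁅d, r⁆ by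
        simp only [commutatorElement_def]; group]
      exact mul_mem (mem_sup_left ((mem_normalizer_iff.mp hdK _).mp
        (K.mul_mem hk ((mem_normalizer_iff.mp (hRK hr) _).mp (K.inv_mem hk)))))
        (mem_sup_right (commutator_mem_commutator hd hr))
    have hDRN : ⁅D, R⁆ ≤ N := (commutator_mono inf_le_left le_rfl).trans hNR.le
    have hNKC : ∀ x ∈ N, ∃ k ∈ K, ∃ c ∈ N ⊓ centralizer (Q : Set G), k * c = x := by
      intro x hx
      obtain ⟨k, hk, c, hc, hkc⟩ := (Coprime.mem_sup_iff (hDRN.trans hNK)).mp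
        ((commutator_le.mpr hKQn) (hNR.ge hx))
      exact ⟨k, hk, c, ⟨hDRN hc, hcq hc⟩, hkc⟩
    have hDC : D ≤ centralizer (Q : Set G) := by
      intro d hd
      obtain ⟨k, hk, c, hc, hkc⟩ := hNKC d hd.1
      have hkQ : k ∈ normalizer (Q : Set G) := by
        have : d * c⁻¹ ∈ normalizer (Q : Set G) :=
          mul_mem hd.2 (inv_mem (centralizer_le_normalizer (s := (Q : Set G)) hc.2))
        rwa [← hkc, mul_inv_cancel_right] at this
      have hkC : k ∈ centralizer (Q : Set G) := mem_centralizer_iff.mpr fun x hx => by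
        refine (commutatorElement_eq_one_iff_mul_comm.mp (mem_bot.mp (hQK.le ⟨?_, ?_⟩))).symm
        · rw [commutatorElement_def]
          exact Q.mul_mem ((mem_normalizer_iff.mp hkQ x).mp hx) (Q.inv_mem hx)
        · rw [show ⁅k, x⁆ = k * (x * k⁻¹ * x⁻¹) by simp [commutatorElement_def, mul_assoc]]
          exact K.mul_mem hk ((mem_normalizer_iff.mp (hNK (hQN hx)) _).mp (K.inv_mem hk))
      rw [← hkc]
      exact mul_mem hkC hc.2
    have hburn : normalizer ((Qs : Subgroup N) : Set N) ≤ centralizer ((Qs : Subgroup N) : Set N) := by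
      intro d hd
      have h1 : (d : G) ∈ D := by
        refine ⟨d.2, mem_normalizer_of_forall ?_ ?_⟩
        · rintro _ ⟨y, hy, rfl⟩
          exact ⟨d * y * d⁻¹, (mem_normalizer_iff.mp hd y).mp hy, rfl⟩
        · rintro _ ⟨y, hy, rfl⟩
          exact ⟨d⁻¹ * y * d⁻¹⁻¹, (mem_normalizer_iff.mp (inv_mem hd) y).mp hy, by simp⟩
      exact mem_centralizer_iff.mpr fun y hy =>
        Subtype.ext (mem_centralizer_iff.mp (hDC h1) y ⟨y, hy, rfl⟩)
    have hcomp := MonoidHom.ker_transferSylow_isComplement' Qs hburn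
    set M := (MonoidHom.transferSylow Qs hburn).ker with hM
    haveI : M.Normal := MonoidHom.normal_ker _
    have hMc : (Nat.card M).Coprime p := by
      rw [Nat.coprime_comm, hp.out.coprime_iff_not_dvd, hM]
      exact MonoidHom.not_dvd_card_ker_transferSylow Qs hburn
    have hMK : ∀ x ∈ M, (x : G) ∈ K := fun x hx => hON x (Cores.le_pPrimeCore hMc hx)
    have hNle : N ≤ K := by
      conv_lhs => rw [← hNR]
      refine commutator_le.mpr fun x hx r hr => ?_
      obtain ⟨⟨⟨m, hm⟩, ⟨w, hw⟩⟩, hmw⟩ := hcomp.2 (⟨x, hx⟩ : N)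
      have hxe : x = (m : G) * w := (congrArg Subtype.val hmw).symm
      have hwR : r * (w : G)⁻¹ * r⁻¹ = (w : G)⁻¹ := by
        have := mem_centralizer_iff.mp (inv_mem (hle ⟨w, hw, rfl⟩) : (w : G)⁻¹ ∈ centralizer (R : Set G)) r hr
        rw [this, mul_inv_cancel_right]
      rw [hxe, show ⁅(m : G) * w, r⁆ = (m : G) * ((w : G) * (r * (w : G)⁻¹ * r⁻¹)) * (r * (m : G)⁻¹ * r⁻¹) by
        simp only [commutatorElement_def]; group, hwR, mul_inv_cancel, mul_one]
      exact K.mul_mem (hMK m hm) ((mem_normalizer_iff.mp (hRK hr) _).mp (K.inv_mem (hMK m hm)))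
    exact hQ0 (eq_bot_iff.mpr fun x hx => hQK.le ⟨hx, hNle (hQN hx)⟩)
  -- a minimal moved subgroup of `Q`
  obtain ⟨Q₁, hQ₁m⟩ := (Set.toFinite {W : Subgroup G | W ≤ Q ∧ R ≤ normalizer (W : Set G) ∧
    ¬ W ≤ centralizer (R : Set G)}).exists_minimal ⟨Q, le_rfl, hRQ, hQR⟩
  obtain ⟨⟨hQ₁Q, hRQ₁, hQ₁R⟩, hQ₁min⟩ := hQ₁m
  have hQ₁N : Q₁ ≤ N := hQ₁Q.trans hQN
  have hQ₁p : IsPGroup p Q₁ := hQp.to_le hQ₁Q
  have hcopQ₁ : (Nat.card R).Coprime (Nat.card Q₁) :=
    hcop.coprime_dvd_right (card_dvd_of_le (hQ₁N.trans hNH))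
  have hQ₁eq : ⁅Q₁, R⁆ = Q₁ := by
    have hle := Coprime.commutator_le_left_of_normalizer hRQ₁
    refine le_antisymm hle (hQ₁min ⟨hle.trans hQ₁Q, normalizer_commutator_ge_right Q₁ R, ?_⟩ hle)
    intro hc
    have h2 := commutator_eq_bot_iff_le_centralizer.mpr hc
    rw [Coprime.commutator_commutator_eq hRQ₁ hcopQ₁ (Or.inr inferInstance)] at h2
    exact hQ₁R (commutator_eq_bot_iff_le_centralizer.mp h2)
  have hKQ₁ : ¬ K ≤ centralizer (Q₁ : Set G) := fun hle => hQ₁R fun x hx => by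
    rw [mem_bot.mp (hQK.le ⟨hQ₁Q hx, hCNK x (hQ₁N hx) (le_centralizer_iff.mp hle hx)⟩)]
    exact one_mem _
  -- a minimal moved subgroup of `K`
  set A := Q₁ ⊔ R with hA
  have hAK : A ≤ normalizer (K : Set G) := sup_le (hQ₁N.trans hNK) hRK
  have hcopA : (Nat.card A).Coprime (Nat.card K) := by
    rw [hA, Coprime.card_sup hRQ₁ (Coprime.inf_eq_bot hcopQ₁.symm)]
    refine Nat.Coprime.mul_left ?_ (hcop.coprime_dvd_right (card_dvd_of_le hKH))
    obtain ⟨e, he⟩ := IsPGroup.iff_card.mp hQ₁p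
    rw [he]
    exact (hKcop.pow_right e).symm
  obtain ⟨q, hq, W₀, hW₀⟩ : ∃ q : ℕ, q.Prime ∧ ∃ W : Subgroup G, W ≤ K ∧ IsPGroup q W ∧
      A ≤ normalizer (W : Set G) ∧ ¬ W ≤ centralizer (Q₁ : Set G) := by
    by_contra hne
    push Not at hne
    refine hKQ₁ (Coprime.le_of_exists_sylow_le fun l hl => ?_)
    haveI := Fact.mk hl
    obtain ⟨S, hS⟩ := Coprime.exists_invariant_sylow (A := A) (K := K) hAK hcopA (Or.inr inferInstance) l
    exact ⟨S, hne l hl _ (map_subtype_le _) (S.isPGroup'.map _) hS⟩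
  haveI := Fact.mk hq
  obtain ⟨K₁, hK₁m⟩ := (Set.toFinite {W : Subgroup G | W ≤ K ∧ IsPGroup q W ∧
    A ≤ normalizer (W : Set G) ∧ ¬ W ≤ centralizer (Q₁ : Set G)}).exists_minimal ⟨W₀, hW₀⟩
  obtain ⟨⟨hK₁K, hK₁q, hAK₁, hK₁Q₁⟩, hK₁min⟩ := hK₁m
  have hQ₁K₁ : Q₁ ≤ normalizer (K₁ : Set G) := le_sup_left.trans hAK₁
  have hRK₁ : R ≤ normalizer (K₁ : Set G) := le_sup_right.trans hAK₁
  have hK₁0 : K₁ ≠ ⊥ := fun hb => hK₁Q₁ (hb.le.trans bot_le)
  have hpq : p ≠ q := by
    rintro rfl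
    exact hK₁0 (coprime_sq_of_isPGroup hK₁q hKcop (card_dvd_of_le hK₁K))
  have hcopK₁ : (Nat.card Q₁).Coprime (Nat.card K₁) := IsPGroup.coprime_card_of_ne p q hpq Q₁ K₁ hQ₁p hK₁q
  have hK₁eq : ⁅K₁, Q₁⁆ = K₁ := by
    have hle := Coprime.commutator_le_left_of_normalizer hQ₁K₁
    refine le_antisymm hle (hK₁min ⟨hle.trans hK₁K, hK₁q.to_le hle, fun a ha =>
      Coprime.mem_normalizer_commutator (hAK₁ ha) ((sup_le le_normalizer hRQ₁ : A ≤ _) ha), ?_⟩ hle)
    intro hc
    have h2 := commutator_eq_bot_iff_le_centralizer.mpr hc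
    rw [Coprime.commutator_commutator_eq hQ₁K₁ hcopK₁
      (Or.inl (haveI := hQ₁p.isNilpotent; inferInstance))] at h2
    exact hK₁Q₁ (commutator_eq_bot_iff_le_centralizer.mp h2)
  -- `H = P K₁ Q₁`
  set H₁ := P ⊔ (K₁ ⊔ Q₁) with hH₁
  have hH₁H : H₁ ≤ H := sup_le hPH (sup_le (hK₁K.trans hKH) (hQ₁N.trans hNH))
  have hH₁eq : H₁ = H := by
    by_contra hne
    have hRH₁ : R ≤ normalizer (H₁ : Set G) := by
      have h1 : ∀ r ∈ R, ∀ x ∈ H₁, r * x * r⁻¹ ∈ H₁ := by
        intro r hr x hx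
        refine (show H₁ ≤ H₁.comap (MulAut.conj r).toMonoidHom from sup_le ?_ (sup_le ?_ ?_)) hx
        · exact fun z hz => mem_sup_left ((hPn.conj_mem z hz r))
        · exact fun z hz => mem_sup_right (mem_sup_left ((mem_normalizer_iff.mp (hRK₁ hr) z).mp hz))
        · exact fun z hz => mem_sup_right (mem_sup_right ((mem_normalizer_iff.mp (hRQ₁ hr) z).mp hz))
      exact fun r hr => mem_normalizer_of_forall (h1 r hr)
        (fun x hx => by simpa using h1 r⁻¹ (R.inv_mem hr) x hx)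
    have hpl := ih_sub IH hn hodd hcop hH₁H le_rfl hR₀ hpr hZ hRH₁ (Or.inl hne)
    set L := ⁅H₁, R⁆ with hL
    have hH₁L : H₁ ≤ normalizer (L : Set G) := normalizer_commutator_ge_left H₁ R
    have hLH₁ : L ≤ H₁ := Coprime.commutator_le_left_of_normalizer hRH₁
    have hQ₁L : Q₁ ≤ L := by
      rw [← hQ₁eq]
      exact commutator_mono (le_sup_right.trans le_sup_right) le_rfl
    have hK₁H₁ : K₁ ≤ H₁ := le_sup_left.trans le_sup_right
    obtain ⟨S, -, hSp, hLS, -, hall⟩ := exists_pCore_of_pLengthLE hpl fun X hXL hLX hXn hXc => by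
      have hXP : X ≤ centralizer (P : Set G) := by
        refine fun x hx => mem_centralizer_iff.mpr fun a ha => ?_
        refine (commutatorElement_eq_one_iff_mul_comm.mp
          (mem_bot.mp ((Cores.disjoint_of_isPGroup_of_coprime hPp hXc).le ⟨?_, ?_⟩))).symm
        · rw [commutatorElement_def]
          exact P.mul_mem (hPn.conj_mem a ha x) (P.inv_mem ha)
        · rw [show ⁅x, a⁆ = x * (a * x⁻¹ * a⁻¹) by simp [commutatorElement_def, mul_assoc]]
          exact X.mul_mem hx ((mem_normalizer_iff.mp (hXn a (hH₁L (mem_sup_left ha))) _).mp (X.inv_mem hx))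
      exact eq_bot_iff.mpr fun x hx => (Cores.disjoint_of_isPGroup_of_coprime hPp hXc).le
        ⟨hcent ⟨hH₁H (hLH₁ (hXL hx)), hXP hx⟩, hx⟩
    have hQ₁S : Q₁ ≤ S := hall Q₁ hQ₁L hQ₁p
    have hK₁L : K₁ ≤ L := by
      rw [← hK₁eq]
      refine commutator_le.mpr fun k hk s hs => ?_
      rw [commutatorElement_def]
      exact L.mul_mem ((mem_normalizer_iff.mp (hH₁L (hK₁H₁ hk)) s).mp (hQ₁L hs)) (L.inv_mem (hQ₁L hs))
    have hK₁S : K₁ ≤ S := by
      rw [← hK₁eq]
      refine commutator_le.mpr fun k hk s hs => ?_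
      rw [commutatorElement_def]
      exact S.mul_mem ((mem_normalizer_iff.mp (hLS (hK₁L hk)) s).mp (hQ₁S hs)) (S.inv_mem (hQ₁S hs))
    exact hK₁0 (coprime_sq_of_isPGroup (hSp.to_le hK₁S) hKcop (card_dvd_of_le hK₁K))
  -- hence `K = K₁` and `Q = Q₁`
  have hKQK : K ⊔ Q ≤ N := sup_le hKN hQN
  have hKeq : K₁ = K ∧ Q₁ = Q := by
    have hQnK : Q ≤ normalizer (K : Set G) := hQN.trans hNK
    have h1 : Nat.card K * Nat.card Q ≤ Nat.card N := by
      rw [← Coprime.card_sup hQnK (inf_comm Q K ▸ hQK)]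
      exact card_le_of_le hKQK
    have h2 : Nat.card N ≤ Nat.card K₁ * Nat.card Q₁ := by
      have hle : N ≤ K₁ ⊔ Q₁ := by
        intro x hx
        obtain ⟨a, ha, z, hz, haz⟩ := (Coprime.mem_sup_iff (hPn' (K₁ ⊔ Q₁))).mp (hH₁eq.ge (hNH hx))
        have hzN : z ∈ N := (sup_le (hK₁K.trans hKN) hQ₁N) hz
        have haN : a ∈ N := by
          have : x * z⁻¹ ∈ N := mul_mem hx (inv_mem hzN)
          rwa [← haz, mul_inv_cancel_right] at this
        rw [← haz, mem_bot.mp (hPN.le ⟨ha, haN⟩), one_mul]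
        exact hz
      rw [← Coprime.card_sup hQ₁K₁ (Coprime.inf_eq_bot hcopK₁.symm)]
      exact card_le_of_le hle
    have h3 := card_le_of_le hK₁K
    have h4 := card_le_of_le hQ₁Q
    have h5 : 0 < Nat.card K := Nat.card_pos
    have h6 : 0 < Nat.card Q := Nat.card_pos
    have h7 : Nat.card K ≤ Nat.card K₁ := Nat.le_of_mul_le_mul_right
      ((h1.trans h2).trans (Nat.mul_le_mul_left _ h4)) h6
    have h8 : Nat.card Q ≤ Nat.card Q₁ := Nat.le_of_mul_le_mul_left
      ((h1.trans h2).trans (Nat.mul_le_mul_right _ h3)) h5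
    exact ⟨eq_of_le_of_card_ge hK₁K h7, eq_of_le_of_card_ge hQ₁Q h8⟩
  obtain ⟨hKeq, hQeq⟩ := hKeq
  rw [hKeq] at hK₁q hK₁0 hK₁min hK₁eq hK₁Q₁
  rw [hQeq] at hQ₁min hQ₁eq hK₁eq hK₁Q₁
  -- the element `t`
  set r := Nat.card R₀ with hr
  haveI := Fact.mk hpr
  haveI : IsCyclic R₀ := isCyclic_of_prime_card (p := r) rfl
  obtain ⟨t₀, ht₀⟩ := IsCyclic.exists_generator (α := R₀)
  set t : G := (t₀ : G) with ht
  have hR₀eq : zpowers t = R₀ := by
    refine le_antisymm (zpowers_le.mpr t₀.2) fun x hx => ?_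
    obtain ⟨i, hi⟩ := mem_zpowers_iff.mp (ht₀ ⟨x, hx⟩)
    exact mem_zpowers_iff.mpr ⟨i, by simpa using congrArg Subtype.val hi⟩
  have hto : orderOf t = r := by rw [← Nat.card_zpowers, hR₀eq]
  have htR : t ∈ R := hR₀ t₀.2
  have htC : centralizer ({t} : Set G) ≤ centralizer (R₀ : Set G) := by
    rw [← hR₀eq]; exact Config.centralizer_single_le
  have hcyc : ∀ (l : ℕ) [Fact l.Prime] (W : Subgroup G), W ≤ H → W ≤ centralizer ({t} : Set G) →
      IsPGroup l W → IsCyclic W := by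
    intro l _ W hWH hWt hW
    haveI := hZ
    have hle : W ≤ H ⊓ centralizer (R₀ : Set G) := le_inf hWH (hWt.trans htC)
    haveI : IsCyclic ↥(W.subgroupOf (H ⊓ centralizer (R₀ : Set G))) :=
      IsPGroup.isCyclic_of_isZGroup (IsPGroup.comap_subtype hW)
    exact isCyclic_of_surjective (subgroupOfEquivOfLe hle) (subgroupOfEquivOfLe hle).surjective
  have hpH : p ∣ Nat.card H := by
    obtain ⟨e, he⟩ := IsPGroup.iff_card.mp hPp
    rcases Nat.eq_zero_or_pos e with rfl | he0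
    · exact absurd (card_eq_one.mp (he.trans (pow_zero p))) hP0
    · exact (he ▸ dvd_pow_self p he0.ne' : p ∣ Nat.card P).trans (card_dvd_of_le hPH)
  have hqH : q ∣ Nat.card H := by
    obtain ⟨e, he⟩ := IsPGroup.iff_card.mp hK₁q
    rcases Nat.eq_zero_or_pos e with rfl | he0
    · exact absurd (card_eq_one.mp (he.trans (pow_zero q))) hK₁0
    · exact (he ▸ dvd_pow_self q he0.ne' : q ∣ Nat.card K).trans (card_dvd_of_le hKH)
  have hnr : ∀ l : ℕ, l.Prime → l ∣ Nat.card H → l ≠ r := fun l hl hd e =>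
    hl.ne_one (Nat.eq_one_of_dvd_coprimes hcop (e ▸ card_dvd_of_le hR₀) hd)
  have hpr' : p ≠ r := hnr p hp.out hpH
  have hqr : q ≠ r := hnr q hq hqH
  have hne2 : ∀ l : ℕ, l ∣ Nat.card G → l ≠ 2 := fun l hd e => by
    subst e
    exact (Nat.not_even_iff_odd.mpr hodd) (even_iff_two_dvd.mpr hd)
  have hp2 := hne2 p (hpH.trans (card_subgroup_dvd_card H))
  have hq2 := hne2 q (hqH.trans (card_subgroup_dvd_card H))
  have hr2 := hne2 r (card_subgroup_dvd_card R₀)
  have hfaith : K ⊓ centralizer (P : Set G) = ⊥ := eq_bot_iff.mpr fun x hx =>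
    hPK.le ⟨hcent ⟨hKH hx.1, hx.2⟩, hx.1⟩
  have hQP : Q ≤ normalizer (P : Set G) := hPn' Q
  -- `t` has fixed points on `P`
  have hPt : P ⊓ centralizer ({t} : Set G) ≠ ⊥ := by
    intro hb
    have h1 := commutator_le_centralizer_odd P hPc hPe (hto ▸ pow_orderOf_eq_one t) hpr'
      (hPn' R htR) hb K (hPn' K) (hRK htR)
      (Config.not_dvd_card_of_isPGroup hp.out hq hpq hK₁q)
      (Config.not_dvd_card_of_isPGroup hpr hq hqr.symm hK₁q)
      (Config.odd_card_of_isPGroup hq hq2 hK₁q)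
    have h2 : ⁅zpowers t, K⁆ ≤ K := commutator_comm (zpowers t) K ▸
      Coprime.commutator_le_left_of_normalizer (zpowers_le.mpr (hRK htR))
    have h3 : ⁅zpowers t, K⁆ = ⊥ := eq_bot_iff.mpr fun x hx => hfaith.le ⟨h2 hx, h1 hx⟩
    rw [commutator_comm, commutator_eq_bot_iff_le_centralizer] at h3
    have h4 := commutator_le_centralizer_of_cyclic
      (hcyc q K hKH (h3.trans Config.centralizer_zpowers_le) hK₁q) (hQN.trans hNK) hRK
    rw [hQ₁eq] at h4
    exact hK₁Q₁ (le_centralizer_iff.mp h4)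
  have hline : ∃ v : G, v ≠ 1 ∧ P ⊓ centralizer ({t} : Set G) = zpowers v := by
    haveI := hcyc p (P ⊓ centralizer ({t} : Set G)) (inf_le_left.trans hPH) inf_le_right
      (hPp.to_le inf_le_left)
    obtain ⟨v, hv⟩ := IsCyclic.exists_generator (α := ↥(P ⊓ centralizer ({t} : Set G)))
    have heq : P ⊓ centralizer ({t} : Set G) = zpowers (v : G) := by
      refine le_antisymm (fun x hx => ?_) (zpowers_le.mpr v.2)
      obtain ⟨k, hk⟩ := mem_zpowers_iff.mp (hv ⟨x, hx⟩)
      exact mem_zpowers_iff.mpr ⟨k, by simpa using congrArg Subtype.val hk⟩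
    exact ⟨v, fun e => hPt (by rw [heq, e, zpowers_one_eq_bot]), heq⟩
  -- none on `Q`
  have hQfix : Q ⊓ centralizer ({t} : Set G) = ⊥ := by
    by_contra hne
    obtain ⟨v, hv1, hv⟩ := hline
    set V := P ⊓ centralizer ({t} : Set G) with hV
    set W := Q ⊓ centralizer ({t} : Set G) with hW
    have hWV : W ≤ normalizer (V : Set G) := fun w hw =>
      inf_normalizer_le_normalizer_inf ⟨hQP hw.1, le_normalizer hw.2⟩
    have hd : V ⊓ W = ⊥ := eq_bot_iff.mpr fun x hx => hPN.le ⟨hx.1.1, hQN hx.2.1⟩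
    have hVp : IsPGroup p V := hPp.to_le inf_le_left
    have hWp : IsPGroup p W := hQp.to_le inf_le_left
    have hVW : IsPGroup p ↥(V ⊔ W) := by
      obtain ⟨a, ha⟩ := IsPGroup.iff_card.mp hVp
      obtain ⟨b, hb⟩ := IsPGroup.iff_card.mp hWp
      exact IsPGroup.of_card (n := a + b) (by rw [Coprime.card_sup hWV hd, ha, hb, pow_add])
    haveI := hcyc p (V ⊔ W) (sup_le (inf_le_left.trans hPH) (inf_le_left.trans (hQN.trans hNH)))
      (sup_le inf_le_right inf_le_right) hVW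
    haveI : Nontrivial W := (nontrivial_iff_ne_bot W).mpr hne
    obtain ⟨w, hw⟩ := exists_prime_orderOf_dvd_card' (G := W) p (by
      obtain ⟨b, hb0, hb⟩ := hWp.nontrivial_iff_card.mp inferInstance
      rw [hb]; exact dvd_pow_self p hb0.ne')
    have hvV : v ∈ V := hv.ge (mem_zpowers v)
    have hvp : orderOf v = p := orderOf_eq_prime (hPe v hvV.1) hv1
    set v' : ↥(V ⊔ W) := ⟨v, mem_sup_left hvV⟩ with hv'
    set w' : ↥(V ⊔ W) := ⟨w, mem_sup_right w.2⟩ with hw'
    haveI := Fintype.ofFinite ↥(V ⊔ W)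
    have hvo : orderOf v' = p := by rw [orderOf_mk]; exact hvp
    have hwo : orderOf w' = p := by rw [orderOf_mk, orderOf_coe]; exact hw
    have hsub : (zpowers v' : Set ↥(V ⊔ W)) ⊆ {x | x ^ p = 1} := fun x hx => by
      obtain ⟨i, rfl⟩ := mem_zpowers_iff.mp hx
      show (v' ^ i) ^ p = 1
      rw [← zpow_natCast, ← zpow_mul, mul_comm, zpow_mul, zpow_natCast, ← hvo, pow_orderOf_eq_one,
        one_zpow]
    have hcard : Nat.card {x : ↥(V ⊔ W) | x ^ p = 1} ≤ p := by
      rw [Nat.card_eq_fintype_card, Fintype.card_subtype]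
      exact IsCyclic.card_pow_eq_one_le hp.out.pos
    have heq : (zpowers v' : Set ↥(V ⊔ W)) = {x | x ^ p = 1} :=
      Set.eq_of_subset_of_ncard_le hsub (by
        rw [← Nat.card_coe_set_eq, ← Nat.card_coe_set_eq]
        refine hcard.trans ?_
        rw [show Nat.card ↥(zpowers v' : Set ↥(V ⊔ W)) = Nat.card (zpowers v') from rfl,
          Nat.card_zpowers, hvo]) (Set.toFinite _)
    have hwV : w' ∈ zpowers v' := heq.ge (show w' ^ p = 1 by rw [← hwo, pow_orderOf_eq_one])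
    obtain ⟨i, hi⟩ := mem_zpowers_iff.mp hwV
    have hwP : (w : G) ∈ V := by
      have e : v ^ i = (w : G) := by simpa [hv', hw'] using congrArg Subtype.val hi
      rw [← e]
      exact zpow_mem hvV i
    have : (w : G) = 1 := mem_bot.mp (hd.le ⟨hwP, w.2⟩)
    rw [← orderOf_coe, this, orderOf_one] at hw
    exact hp.out.ne_one hw.symm
  -- `R = R₀`
  have hRR : R₀ = R := by
    by_contra hne
    have hpl := ih_sub IH hn hodd hcop le_rfl hR₀ le_rfl hpr hZ (hR₀.trans hRH) (Or.inr hne)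
    set L := ⁅H, R₀⁆ with hL
    have hLH : L ≤ H := Coprime.commutator_le_left_of_normalizer (hR₀.trans hRH)
    have hHL : H ≤ normalizer (L : Set G) := normalizer_commutator_ge_left H R₀
    obtain ⟨S, hSL, hSp, -, hSn, hall⟩ := exists_pCore_of_pLengthLE hpl fun X hXL _ hXn hXc => by
      have hXle : X.subgroupOf H ≤ Cfsg.pPrimeCore p H := by
        haveI : (X.subgroupOf H).Normal := (normal_subgroupOf_iff_le_normalizer (hXL.trans hLH)).mpr
          fun h hh => hXn h (hHL hh)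
        refine Cores.le_pPrimeCore ?_
        rwa [Nat.card_congr (subgroupOfEquivOfLe (hXL.trans hLH)).toEquiv]
      rw [hO, le_bot_iff, subgroupOf_eq_bot, disjoint_iff] at hXle
      rwa [inf_eq_left.mpr (hXL.trans hLH)] at hXle
    have hSP : S ≤ P := by
      haveI : (S.subgroupOf H).Normal := (normal_subgroupOf_iff_le_normalizer (hSL.trans hLH)).mpr
        fun h hh => hSn h (hHL hh)
      rw [← map_subgroupOf_eq_of_le (hSL.trans hLH)]
      exact map_mono (Cores.le_pCore hSp.comap_subtype)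
    have hQt : ⁅Q, R₀⁆ = ⊥ := by
      have h1 : ⁅Q, R₀⁆ ≤ Q := Coprime.commutator_le_left_of_normalizer (hR₀.trans hRQ)
      refine eq_bot_iff.mpr fun x hx => hPN.le ⟨hSP ?_, hQN (h1 hx)⟩
      exact hall _ (commutator_mono (hQN.trans hNH) le_rfl) (hQp.to_le h1) hx
    rw [commutator_eq_bot_iff_le_centralizer] at hQt
    refine hQ0 (eq_bot_iff.mpr fun x hx => hQfix ▸ ⟨hx, ?_⟩)
    exact Config.centralizer_zpowers_le (hR₀eq.symm ▸ hQt hx)
  have hRt : R = zpowers t := by rw [hR₀eq, hRR]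
  have hRle : ∀ W : Subgroup G, t ∈ normalizer (W : Set G) → R ≤ normalizer (W : Set G) :=
    fun W h => hRt ▸ zpowers_le.mpr h
  -- the configuration
  refine Config.false_of_config (p := p) (q := q) (r := r) (P := P) (K := K) (Q := Q) (t := t)
    { hpq := hpq, hpr := hpr', hqr := hqr, hp2 := hp2, hq2 := hq2, hr2 := hr2, order_t := hto,
      P_comm := hPc, P_exp := hPe, K_norm_P := hPn' K, Q_norm_P := hQP, t_norm_P := hPn' R htR,
      Q_norm_K := hQN.trans hNK, t_norm_K := hRK htR, t_norm_Q := hRQ htR,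
      K_isPGroup := hK₁q, Q_isPGroup := hQp, faithful := hfaith, fix_K := hfixK,
      K_cyclic := hcyc q _ (inf_le_left.trans hKH) inf_le_right (hK₁q.to_le inf_le_left),
      P_line := hline, Q_fpf := hQfix, Q_ne := hQ0,
      Q_min := ?_, K_min := ?_, K_moved := hK₁Q₁ }
  · intro Q' hQ' htQ' hne
    have hc : Q' ≤ centralizer (R : Set G) := by
      by_contra hc
      exact hne (le_antisymm hQ' (hQ₁min ⟨hQ', hRle _ htQ', hc⟩ hQ'))
    refine eq_bot_iff.mpr fun x hx => hQfix ▸ ⟨hQ' hx, Config.centralizer_zpowers_le ?_⟩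
    exact hRt ▸ hc hx
  · intro K' hK' hQK' htK' hne
    by_contra hc
    rw [← hQeq] at hc hQK'
    exact hne (le_antisymm hK' (hK₁min ⟨hK', hK₁q.to_le hK', sup_le hQK' (hRle _ htK'), hc⟩ hK'))

/-- **BG 3.6**. -/
theorem stmt_all : ∀ n, Stmt.{u} p n := fun n => Nat.strongRecOn n fun _ IH => step IH

/-- **BG 3.6**: `[H, R]` has `p`-length one. -/
theorem pLengthLE_one_commutator {X : Type u} [Group X] [Finite X] [Group.IsSolvable X]
    (hodd : Odd (Nat.card X)) {H R R₀ : Subgroup X} [H.Normal] (htop : H ⊔ R = ⊤)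
    (hcop : (Nat.card R).Coprime (Nat.card H)) (hR₀ : R₀ ≤ R) (hpr : (Nat.card R₀).Prime)
    (hZ : IsZGroup ↥(H ⊓ centralizer (R₀ : Set X))) : Cfsg.PLengthLE p 1 ↥⁅H, R⁆ :=
  stmt_all _ X rfl inferInstance hodd H R R₀ inferInstance htop hcop hR₀ hpr hZ

end Cfsg.Agent.OddOrder.BG3
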