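import Cfsg.Agent.Coprime.Abelian
import Cfsg.Agent.Coprime.Commutator
import Cfsg.Agent.Fusion.PComplement
import Cfsg.Agent.PGroups.Basic
import Cfsg.Agent.PGroups.MaxAbelian

/-!
BG 1.18-type facts: a normal Hall subgroup inside the derived group.
-/

set_option autoImplicit false

namespace Cfsg.Agent.OddOrder.BG3

open Subgroup
open scoped commutatorElement

universe u

variable {G : Type u} [Group G] [Finite G]

set_option maxHeartbeats 1000000 in
/-- A normal Hall subgroup of `G'` with complement `K` equals `[H, K]`. -/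
theorem hall_eq_commutator [Group.IsSolvable G] {H K : Subgroup G} (hH : H.Normal)
    (hcop : (Nat.card H).Coprime H.index) (hc : H.IsComplement' K) (hle : H ≤ commutator G) :
    H = ⁅H, K⁆ ∧ H ⊓ centralizer (K : Set G) ≤ ⁅H, H⁆ := by
  set N := ⁅H, K⁆ with hN
  have hNH : N ≤ H := commutator_le_left H K
  have hNn : N.Normal := by
    rw [← normalizer_eq_top_iff, eq_top_iff, ← hc.sup_eq_top]
    exact sup_le (normalizer_commutator_ge_left H K) (normalizer_commutator_ge_right H K)
  set f := QuotientGroup.mk' N with hf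
  have hHK : ∀ h ∈ H, ∀ k ∈ K, Commute (f h) (f k) := fun h hh k hk => by
    rw [← commutatorElement_eq_one_iff_commute, ← map_commutatorElement, ← MonoidHom.mem_ker,
      QuotientGroup.ker_mk']
    exact commutator_mem_commutator hh hk
  have hcards : (Nat.card (H.map f)).Coprime (Nat.card (K.map f)) :=
    (hcop.coprime_dvd_left (card_map_dvd H f)).coprime_dvd_right
      ((card_map_dvd K f).trans hc.symm.index_eq_card.symm.dvd)
  -- the image of the derived group
  have hder : (commutator G).map f ≤ ⁅H.map f, H.map f⁆ ⊔ ⁅K.map f, K.map f⁆ := by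
    rw [_root_.commutator_def, ← map_commutator, ← map_commutator, ← Subgroup.map_sup, map_le_iff_le_comap,
      Subgroup.commutator_le]
    intro x _ y _
    obtain ⟨⟨h, k⟩, rfl⟩ := hc.surjective x
    obtain ⟨⟨h', k'⟩, rfl⟩ := hc.surjective y
    have e : f ⁅(h : G) * k, (h' : G) * k'⁆ = f (⁅(h : G), (h' : G)⁆ * ⁅(k : G), (k' : G)⁆) := by
      simp only [map_mul, map_inv, commutatorElement_def, mul_inv_rev]
      have a1 := hHK h h.2 k' k'.2
      have a2 := hHK h' h'.2 k k.2
      have a3 : Commute (f h)⁻¹ (f k') := a1.inv_left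
      have a4 : Commute (f h')⁻¹ (f k) := a2.inv_left
      calc f h * f k * (f h' * f k') * ((f k)⁻¹ * (f h)⁻¹) * ((f k')⁻¹ * (f h')⁻¹)
          = f h * (f k * f h') * f k' * (f k)⁻¹ * ((f h)⁻¹ * (f k')⁻¹) * (f h')⁻¹ := by group
        _ = f h * f h' * (f k * f k' * (f k)⁻¹ * (f k')⁻¹) * (f h)⁻¹ * (f h')⁻¹ := by
            rw [← a2.eq, a1.inv_inv.eq]; group
        _ = f h * f h' * ((f k * f k' * (f k)⁻¹ * (f k')⁻¹) * ((f h)⁻¹ * (f h')⁻¹)) := by group
        _ = _ := by
            have a5 : Commute (f k * f k' * (f k)⁻¹ * (f k')⁻¹) ((f h)⁻¹ * (f h')⁻¹) := by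
              have b1 : ∀ z ∈ K, Commute (f z) ((f h)⁻¹ * (f h')⁻¹) := fun z hz =>
                ((hHK h h.2 z hz).symm.inv_right).mul_right ((hHK h' h'.2 z hz).symm.inv_right)
              exact ((((b1 k k.2).mul_left (b1 k' k'.2)).mul_left (b1 k k.2).inv_left)).mul_left
                (b1 k' k'.2).inv_left
            rw [a5.eq]; group
    rw [mem_comap, e]
    exact ⟨_, mul_mem (mem_sup_left (commutator_mem_commutator h.2 h'.2))
      (mem_sup_right (commutator_mem_commutator k.2 k'.2)), rfl⟩
  have hperf : H.map f ≤ ⁅H.map f, H.map f⁆ := by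
    intro x hx
    have h1 := hder (Subgroup.map_mono hle hx)
    have hnorm : ⁅K.map f, K.map f⁆ ≤ normalizer ((⁅H.map f, H.map f⁆ : Subgroup (G ⧸ N)) : Set (G ⧸ N)) := by
      have hn : (H.map f).Normal := Subgroup.Normal.map hH f (QuotientGroup.mk'_surjective N)
      exact le_of_le_of_eq le_top (normalizer_eq_top (H := ⁅H.map f, H.map f⁆)).symm
    obtain ⟨a, ha, b, hb, rfl⟩ := (Coprime.mem_sup_iff hnorm).mp h1
    have hbH : b ∈ H.map f := by
      have := mul_mem (inv_mem (commutator_le_self _ ha)) hx
      rwa [inv_mul_cancel_left] at this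
    have hb' : b ∈ H.map f ⊓ K.map f := mem_inf.mpr ⟨hbH, commutator_le_self _ hb⟩
    rw [Coprime.inf_eq_bot hcards, mem_bot] at hb'
    rw [hb', mul_one]
    exact ha
  have hbot : H.map f = ⊥ := by
    have hsolv : Group.IsSolvable (H.map f) := Coprime.isSolvable_map f (inferInstance)
    by_contra hne
    refine (Group.IsSolvable.commutator_lt_of_ne_bot hne).ne (le_antisymm (commutator_le_self _) hperf)
  have hHN : H = N := by
    refine le_antisymm ?_ hNH
    rwa [Subgroup.map_eq_bot_iff, QuotientGroup.ker_mk'] at hbot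
  refine ⟨hHN, ?_⟩
  -- fixed points modulo `H'`
  set g := QuotientGroup.mk' (⁅H, H⁆ : Subgroup G) with hg
  have hVc : IsMulCommutative (H.map g) := PGroups.isMulCommutative_of_comm (by
    rintro _ ⟨a, ha, rfl⟩ _ ⟨b, hb, rfl⟩
    rw [← commutatorElement_eq_one_iff_mul_comm, ← map_commutatorElement, ← MonoidHom.mem_ker,
      QuotientGroup.ker_mk']
    exact commutator_mem_commutator ha hb)
  have hVn : (H.map g).Normal := Subgroup.Normal.map hH g (QuotientGroup.mk'_surjective _)
  obtain ⟨hd, -⟩ := Coprime.abelian_decomposition (V := H.map g) (A := K.map g)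
    (le_of_le_of_eq le_top (normalizer_eq_top (H := H.map g)).symm)
    ((hcop.coprime_dvd_left (card_map_dvd H g)).coprime_dvd_right
      ((card_map_dvd K g).trans hc.symm.index_eq_card.symm.dvd)).symm
  rw [← map_commutator, ← hN, ← hHN] at hd
  intro x hx
  have h1 : g x ∈ (H.map g ⊓ centralizer (K.map g : Set (G ⧸ ⁅H, H⁆))) ⊓ H.map g := by
    refine ⟨⟨mem_map_of_mem g hx.1, mem_centralizer_iff.mpr ?_⟩, mem_map_of_mem g hx.1⟩
    rintro _ ⟨k, hk, rfl⟩
    rw [← map_mul, ← map_mul, mem_centralizer_iff.mp hx.2 k hk]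
  rw [hd, mem_bot] at h1
  exact (QuotientGroup.eq_one_iff x).mp h1

/-- Derived group of prime index, nilpotent. -/
theorem derived_prime_index [Group.IsSolvable G] (hnil : Group.IsNilpotent ↥(commutator G))
    (hq : (commutator G).index.Prime) :
    (Nat.card ↥(commutator G)).Coprime (commutator G).index ∧
      ∀ K : Subgroup G, IsComplement' (commutator G) K → commutator G = ⁅(⊤ : Subgroup G), K⁆ := by
  set q := (commutator G).index with hqd
  have : Fact q.Prime := ⟨hq⟩
  have hcop : (Nat.card ↥(commutator G)).Coprime q := by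
    set M₀ := Cfsg.pResidual q ↥(commutator G) with hM₀
    have hcc : M₀.Characteristic := by
      rw [characteristic_iff_le_comap]
      intro φ
      rw [hM₀, Cfsg.pResidual, closure_le]
      intro x hx
      refine subset_closure (?_ : (orderOf (φ x)).Coprime q)
      rwa [MulEquiv.orderOf_eq]
    have h1 := Fusion.hasNormalPComplement_iff_pResidual.mp
      (Fusion.hasNormalPComplement_of_isNilpotent (p := q) (G := ↥(commutator G)))
    have h2 : IsPGroup q (↥(commutator G) ⧸ M₀) := Fusion.isPGroup_quotient_pResidual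
    obtain ⟨i, hi⟩ := IsPGroup.iff_card.mp h2
    rw [← index_eq_card] at hi
    set M := M₀.map (commutator G).subtype with hM
    have hMn : M.Normal := ConjAct.normal_of_characteristic_of_normal
    have hidx : M.index = q ^ (i + 1) := by
      rw [hM, index_map_subtype, hi, ← hqd, pow_succ]
    have hP : IsPGroup q (G ⧸ M) := IsPGroup.of_card (n := i + 1) (by rw [← index_eq_card, hidx])
    have hder : (commutator G).map (QuotientGroup.mk' M) = commutator (G ⧸ M) := by
      rw [_root_.commutator_def, _root_.commutator_def, map_commutator,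
        map_top_of_surjective _ (QuotientGroup.mk'_surjective M)]
    have hcyc : IsCyclic (G ⧸ M) := by
      have hle := PGroups.commutator_le_frattini hP
      have hd : (frattini (G ⧸ M)).index ∣ q := by
        refine (index_dvd_of_le hle).trans ?_
        rw [← hder, index_map, QuotientGroup.ker_mk', sup_eq_left.mpr (map_subtype_le M₀),
          MonoidHom.range_eq_top.mpr (QuotientGroup.mk'_surjective M), index_top, mul_one]
      have : IsCyclic ((G ⧸ M) ⧸ frattini (G ⧸ M)) := by
        rcases (Nat.dvd_prime hq).mp hd with h | h <;> rw [index_eq_card] at h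
        · have : Subsingleton ((G ⧸ M) ⧸ frattini (G ⧸ M)) := (Nat.card_eq_one_iff_unique.mp h).1
          infer_instance
        · exact isCyclic_of_prime_card h
      exact PGroups.isCyclic_of_frattini
    have hbot : commutator (G ⧸ M) = ⊥ := by
      rw [commutator_eq_bot_iff]
      infer_instance
    rw [← hder, Subgroup.map_eq_bot_iff, QuotientGroup.ker_mk'] at hbot
    have heq : M = commutator G := le_antisymm (map_subtype_le M₀) hbot
    rw [← heq, hM, card_map_of_injective (commutator G).subtype_injective]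
    exact (hq.coprime_iff_not_dvd.mpr h1).symm
  refine ⟨hcop, fun K hK => le_antisymm ?_ ?_⟩
  · exact (hall_eq_commutator inferInstance hcop hK le_rfl).1.le.trans (commutator_mono le_top le_rfl)
  · exact (commutator_mono le_rfl le_top).trans (_root_.commutator_def G).ge

end Cfsg.Agent.OddOrder.BG3
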