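import Cfsg.Agent.Coprime.FpfElem
import Cfsg.Agent.Coprime.Action
import Cfsg.Agent.Coprime.Abelian
import Cfsg.Prelude.Def_Local

/-!
Tools for BG 3.6: an element of prime order whose fixed points form a line, and the quotient form
of the fixed-point-free commutator lemma.
-/

set_option autoImplicit false

namespace Cfsg.Agent.OddOrder.BG3

open Subgroup
open scoped IsMulCommutative commutatorElement

variable {G : Type*} [Group G] [Finite G]

/-- Membership in the centraliser of a single element. -/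
theorem mem_centralizer_single {g x : G} : x ∈ centralizer ({g} : Set G) ↔ g * x = x * g := by
  rw [mem_centralizer_iff]
  exact ⟨fun h => h g rfl, fun h y hy => (Set.mem_singleton_iff.mp hy) ▸ h⟩

/-- Odd order form of the fixed-point-free commutator lemma. -/
theorem commutator_le_centralizer_odd {l r : ℕ} [Fact l.Prime] [Fact r.Prime] (V : Subgroup G)
    (hVc : IsMulCommutative V) (hexp : ∀ v ∈ V, v ^ l = 1) {t : G} (htr : t ^ r = 1) (hlr : l ≠ r)
    (htV : t ∈ normalizer (V : Set G)) (hfix : V ⊓ centralizer ({t} : Set G) = ⊥) (K : Subgroup G)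
    (hKV : K ≤ normalizer (V : Set G)) (htK : t ∈ normalizer (K : Set G))
    (hl : ¬ l ∣ Nat.card K) (hr : ¬ r ∣ Nat.card K) (hodd : Odd (Nat.card K)) :
    ⁅zpowers t, K⁆ ≤ centralizer (V : Set G) :=
  haveI := hVc
  Coprime.FpfElem.commutator_le_centralizer V hexp t htr hlr htV
    (fun v hv h => mem_bot.mp (hfix ▸ ⟨hv, mem_centralizer_single.mpr h⟩ : v ∈ (⊥ : Subgroup G)))
    K hKV htK fun s _ hs => ⟨fun h => hl (h ▸ hs), fun h => hr (h ▸ hs), fun h =>
      (Nat.not_even_iff_odd.mpr hodd) (even_iff_two_dvd.mpr (h.1 ▸ hs))⟩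

/-- `t` fixed-point-free on `K / F` forces `[t, Q]` to centralise `K / F`. -/
theorem commutator_le_of_fpf {q r : ℕ} [Fact q.Prime] [Fact r.Prime] (hqr : q ≠ r)
    {K F Q : Subgroup G} {t : G} (hFK : F ≤ K) (hKF : K ≤ normalizer (F : Set G))
    (hKK : ⁅K, K⁆ ≤ F) (hexp : ∀ x ∈ K, x ^ q ∈ F) (htr : t ^ r = 1)
    (hcop : (Nat.card (zpowers t)).Coprime (Nat.card K))
    (htK : t ∈ normalizer (K : Set G)) (htF : t ∈ normalizer (F : Set G))
    (hQK : Q ≤ normalizer (K : Set G)) (hQF : Q ≤ normalizer (F : Set G))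
    (htQ : t ∈ normalizer (Q : Set G))
    (hq : ¬ q ∣ Nat.card Q) (hr : ¬ r ∣ Nat.card Q) (hodd : Odd (Nat.card Q))
    (hfix : K ⊓ centralizer ({t} : Set G) ≤ F) :
    ⁅⁅zpowers t, Q⁆, K⁆ ≤ F := by
  let N := normalizer (F : Set G)
  let F' := F.subgroupOf N
  haveI : F'.Normal := normal_in_normalizer
  let π := QuotientGroup.mk' F'
  have hπ : ∀ y : N, π y = 1 ↔ (y : G) ∈ F := fun y => QuotientGroup.eq_one_iff y
  set T : N := ⟨t, htF⟩ with hTdef
  set Kb : Subgroup (N ⧸ F') := (K.subgroupOf N).map π with hKb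
  set Qb : Subgroup (N ⧸ F') := (Q.subgroupOf N).map π with hQb
  have hKc : IsMulCommutative Kb := by
    refine ⟨⟨fun a b => Subtype.ext ?_⟩⟩
    obtain ⟨x, hx, hxa⟩ := a.2
    obtain ⟨y, hy, hyb⟩ := b.2
    show (a : N ⧸ F') * b = b * a
    rw [← hxa, ← hyb, ← commutatorElement_eq_one_iff_mul_comm, ← map_commutatorElement, hπ]
    exact hKK (commutator_mem_commutator hx hy)
  have hKe : ∀ v ∈ Kb, v ^ q = 1 := by
    rintro _ ⟨x, hx, rfl⟩
    rw [← map_pow, hπ]
    exact hexp _ hx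
  have hTr : π T ^ r = 1 := by
    rw [← map_pow, show T ^ r = 1 from Subtype.ext (by simp [hTdef, htr]), map_one]
  have hTn : ∀ S : Subgroup G, t ∈ normalizer (S : Set G) →
      π T ∈ normalizer (((S.subgroupOf N).map π : Subgroup (N ⧸ F')) : Set (N ⧸ F')) := by
    intro S hS
    refine (Subgroup.le_normalizer_map (H := S.subgroupOf N) π) ⟨T, ?_, rfl⟩
    exact mem_normalizer_iff.mpr fun h => mem_normalizer_iff.mp hS (h : G)
  have hQKb : Qb ≤ normalizer (Kb : Set (N ⧸ F')) := by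
    rintro _ ⟨x, hx, rfl⟩
    refine (Subgroup.le_normalizer_map (H := K.subgroupOf N) π) ⟨x, ?_, rfl⟩
    exact mem_normalizer_iff.mpr fun h => mem_normalizer_iff.mp (hQK hx) (h : G)
  have hcardQ : Nat.card Qb ∣ Nat.card Q := by
    refine (card_map_dvd (H := Q.subgroupOf N) π).trans (dvd_of_eq ?_)
    exact Nat.card_congr (Subgroup.subgroupOfEquivOfLe (hQF : Q ≤ N)).toEquiv
  have hfixb : Kb ⊓ centralizer ({π T} : Set (N ⧸ F')) = ⊥ := by
    refine eq_bot_iff.mpr fun u hu => ?_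
    obtain ⟨⟨x, hx, rfl⟩, hu2⟩ := hu
    rw [mem_bot, hπ]
    have hTx : π ⁅T, x⁆ = 1 := by
      rw [map_commutatorElement, commutatorElement_eq_one_iff_mul_comm]
      exact mem_centralizer_single.mp hu2
    obtain ⟨c, hc, hcx⟩ := Coprime.exists_centralizer_mem_coset (A := zpowers t) (K := K)
      (zpowers_le.mpr htK) hcop (Or.inl (Coprime.isSolvable_zpowers t)) hFK (zpowers_le.mpr htF)
      (k := (x : G)) hx (by
        intro a ha
        have hcomm : Commute (π T) (π x) := mem_centralizer_single.mp hu2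
        obtain ⟨i, rfl⟩ := mem_zpowers_iff.mp ha
        have h1 : π (x⁻¹ * (T ^ i * x * (T ^ i)⁻¹)) = 1 := by
          rw [map_mul, map_inv, map_mul, map_mul, map_inv, map_zpow,
            (hcomm.zpow_left i).eq, mul_inv_cancel_right, inv_mul_cancel]
        exact (hπ _).mp h1)
    have hcF : c ∈ F := hfix ⟨hc.1, mem_centralizer_single.mpr
      (mem_centralizer_iff.mp hc.2 t (mem_zpowers t))⟩
    have := mul_mem hcF (inv_mem hcx)
    simpa using this
  have h := commutator_le_centralizer_odd (l := q) (r := r) Kb hKc hKe hTr hqr (hTn K htK) hfixb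
    Qb hQKb (hTn Q htQ) (fun h => hq (h.trans hcardQ)) (fun h => hr (h.trans hcardQ))
    (hodd.of_dvd_nat hcardQ)
  have hN : ⁅zpowers t, Q⁆ ≤ N :=
    commutator_le.mpr fun a ha b hb => by
      rw [commutatorElement_def]
      exact mul_mem (mul_mem (mul_mem ((zpowers_le.mpr htF : zpowers t ≤ N) ha) (hQF hb))
        (inv_mem ((zpowers_le.mpr htF : zpowers t ≤ N) ha))) (inv_mem (hQF hb))
  refine commutator_le.mpr fun d hd x hx => ?_
  have hd' : π ⟨d, hN hd⟩ ∈ ⁅zpowers (π T), Qb⁆ := by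
    have e : ⁅zpowers (π T), Qb⁆ = ⁅zpowers T, Q.subgroupOf N⁆.map π := by
      rw [map_commutator, MonoidHom.map_zpowers]
    rw [e]
    refine ⟨⟨d, hN hd⟩, ?_, rfl⟩
    have e2 : ⁅zpowers T, Q.subgroupOf N⁆.map N.subtype = ⁅zpowers t, Q⁆ := by
      rw [map_commutator, MonoidHom.map_zpowers, map_subgroupOf_eq_of_le (hQF : Q ≤ N)]
      rfl
    obtain ⟨y, hy, hyd⟩ := e2.ge hd
    rwa [show (⟨d, hN hd⟩ : N) = y from Subtype.ext hyd.symm]
  have h2 : π ⁅(⟨d, hN hd⟩ : N), ⟨x, hKF hx⟩⁆ = 1 := by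
    rw [map_commutatorElement, commutatorElement_eq_one_iff_mul_comm]
    exact (mem_centralizer_iff.mp (h hd') (π ⟨x, hKF hx⟩) ⟨_, hx, rfl⟩).symm
  exact (hπ _).mp h2

/-- If the fixed line of `t` meets every nontrivial invariant subgroup of `W`, then an element
commuting with `t` and with `Z` acts on `W` as a power map. -/
theorem exists_zpow_of_fix {p r : ℕ} [Fact p.Prime] [Fact r.Prime] (hpr : p ≠ r) {W : Subgroup G}
    (hWc : IsMulCommutative W) (hWe : ∀ w ∈ W, w ^ p = 1) {Z : Subgroup G} {t c v : G}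
    (htr : t ^ r = 1) (ht : t ∈ normalizer (W : Set G)) (hc : c ∈ normalizer (W : Set G))
    (hZ : Z ≤ normalizer (W : Set G)) (htc : t * c = c * t) (hcZ : ∀ z ∈ Z, z * c = c * z)
    (hv : W ⊓ centralizer ({t} : Set G) = zpowers v)
    (hinv : ∀ W' ≤ W, Z ≤ normalizer (W' : Set G) → t ∈ normalizer (W' : Set G) →
      W' ⊓ centralizer ({t} : Set G) = ⊥ → W' = ⊥) :
    ∃ m : ℤ, ∀ w ∈ W, c * w * c⁻¹ = w ^ m := by
  haveI := hWc
  have hvW : v ∈ W := (hv.ge (mem_zpowers v)).1
  have hvt : t * v = v * t := mem_centralizer_single.mp (hv.ge (mem_zpowers v)).2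
  have hcv : c * v * c⁻¹ ∈ zpowers v := by
    rw [← hv]
    refine ⟨(mem_normalizer_iff.mp hc v).mp hvW, mem_centralizer_single.mpr ?_⟩
    calc t * (c * v * c⁻¹) = t * c * v * c⁻¹ := by group
      _ = c * (t * v) * c⁻¹ := by rw [htc]; group
      _ = c * v * (c⁻¹ * (c * t)) * c⁻¹ := by rw [hvt]; group
      _ = c * v * (c⁻¹ * (t * c)) * c⁻¹ := by rw [htc]
      _ = c * v * c⁻¹ * t := by group
  obtain ⟨m, hm⟩ := mem_zpowers_iff.mp hcv
  refine ⟨m, ?_⟩
  -- conjugation by an element of the normaliser, as an endomorphism of `W`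
  let κ : ∀ a ∈ normalizer (W : Set G), W →* W := fun a ha =>
    { toFun := fun w => ⟨a * w * a⁻¹, (mem_normalizer_iff.mp ha _).mp w.2⟩
      map_one' := Subtype.ext (by simp)
      map_mul' := fun w w' => Subtype.ext (by simp [mul_assoc]) }
  let g : W →* W := κ c hc * (zpowGroupHom m)⁻¹
  have hg : ∀ w : W, g w = κ c hc w * (w ^ m)⁻¹ := fun w => rfl
  have hκg : ∀ a (ha : a ∈ normalizer (W : Set G)), a * c = c * a → ∀ w,
      κ a ha (g w) = g (κ a ha w) := by
    intro a ha hac w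
    rw [hg, hg, map_mul, map_inv, map_zpow]
    congr 1
    refine Subtype.ext ?_
    show a * (c * w * c⁻¹) * a⁻¹ = c * (a * w * a⁻¹) * c⁻¹
    calc a * (c * w * c⁻¹) * a⁻¹ = (a * c) * w * (a * c)⁻¹ := by group
      _ = (c * a) * w * (c * a)⁻¹ := by rw [hac]
      _ = c * (a * w * a⁻¹) * c⁻¹ := by group
  suffices hW' : g.range.map W.subtype = ⊥ by
    intro w hw
    have h1 : g ⟨w, hw⟩ = 1 := Subtype.ext (mem_bot.mp (hW' ▸ ⟨_, ⟨⟨w, hw⟩, rfl⟩, rfl⟩))
    rw [hg, mul_inv_eq_one] at h1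
    simpa [κ] using congrArg Subtype.val h1
  have hnorm : ∀ a ∈ normalizer (W : Set G), a * c = c * a →
      ∀ y ∈ g.range.map W.subtype, a * y * a⁻¹ ∈ g.range.map W.subtype := by
    rintro a ha hac _ ⟨_, ⟨w, rfl⟩, rfl⟩
    exact ⟨g (κ a ha w), ⟨_, rfl⟩, (congrArg Subtype.val (hκg a ha hac w)).symm⟩
  have hnorm' : ∀ a ∈ normalizer (W : Set G), a * c = c * a →
      a ∈ normalizer ((g.range.map W.subtype : Subgroup G) : Set G) := by
    intro a ha hac
    refine mem_normalizer_iff.mpr fun y => ⟨hnorm a ha hac y, fun h => ?_⟩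
    have hac' : a⁻¹ * c = c * a⁻¹ := (Commute.inv_left hac).eq
    simpa [mul_assoc] using hnorm a⁻¹ (inv_mem ha) hac' _ h
  refine hinv _ (map_subtype_le _) (fun z hz => hnorm' z (hZ hz) (hcZ z hz)) (hnorm' t ht htc) ?_
  refine eq_bot_iff.mpr fun y hy => ?_
  obtain ⟨⟨_, ⟨w, rfl⟩, rfl⟩, hyt⟩ := hy
  rw [mem_bot]
  set τ := κ t ht with hτ
  have hτr : τ^[r] = id := by
    funext u
    have h : ∀ i : ℕ, ((τ^[i] u : W) : G) = t ^ i * u * (t ^ i)⁻¹ := by
      intro i
      induction i with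
      | zero => simp
      | succ i ih =>
        rw [Function.iterate_succ_apply']
        show t * ((τ^[i] u : W) : G) * t⁻¹ = _
        rw [ih, pow_succ']
        group
    exact Subtype.ext (by rw [h r, htr]; simp)
  let n : W := ∏ i ∈ Finset.range r, τ^[i] w
  have hn : τ n = n := by
    have hr0 : 0 < r := (Fact.out : r.Prime).pos
    obtain ⟨r', rfl⟩ : ∃ r', r = r' + 1 := ⟨r - 1, by omega⟩
    show τ (∏ i ∈ Finset.range (r' + 1), τ^[i] w) = _
    rw [map_prod]
    simp only [← Function.iterate_succ_apply' τ]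
    rw [Finset.prod_range_succ]
    show _ = ∏ i ∈ Finset.range (r' + 1), τ^[i] w
    rw [Finset.prod_range_succ']
    congr 1
    rw [congrFun hτr w]
    rfl
  have hgn : g n = 1 := by
    have h1 : (n : G) ∈ zpowers v := by
      rw [← hv]
      exact ⟨n.2, mem_centralizer_single.mpr (mul_inv_eq_iff_eq_mul.mp (congrArg Subtype.val hn))⟩
    obtain ⟨k, hk⟩ := mem_zpowers_iff.mp h1
    have h2 : n = (⟨v, hvW⟩ : W) ^ k := Subtype.ext (by simpa using hk.symm)
    rw [h2, map_zpow]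
    have h3 : g ⟨v, hvW⟩ = 1 := by
      rw [hg, mul_inv_eq_one]
      exact Subtype.ext (by simpa [κ] using hm.symm)
    rw [h3, one_zpow]
  have hfx : τ (g w) = g w := Subtype.ext (by
    show t * _ * t⁻¹ = _
    rw [show t * ((g w : W) : G) = (g w : W) * t from mem_centralizer_single.mp hyt,
      mul_inv_cancel_right])
  have hgw : g w ^ r = 1 := by
    have h1 : ∀ i : ℕ, g (τ^[i] w) = g w := by
      intro i
      induction i with
      | zero => rfl
      | succ i ih => rw [Function.iterate_succ_apply', ← hκg t ht htc, ih, hfx]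
    rw [← hgn, map_prod, Finset.prod_congr rfl fun i _ => h1 i, Finset.prod_const, Finset.card_range]
  have hgp : ((g w : W) : G) ^ p = 1 := hWe _ (g w).2
  have hgr : ((g w : W) : G) ^ r = 1 := by simpa using congrArg Subtype.val hgw
  have := Nat.eq_one_of_dvd_coprimes
    ((Nat.coprime_primes (Fact.out : p.Prime) (Fact.out : r.Prime)).mpr hpr)
    (orderOf_dvd_of_pow_eq_one hgp) (orderOf_dvd_of_pow_eq_one hgr)
  exact orderOf_eq_one_iff.mp this

end Cfsg.Agent.OddOrder.BG3
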