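import Cfsg.Agent.OddOrder.PF9.FrobDichotomy
import Cfsg.Agent.H1.FrobWielandt
import Cfsg.Agent.Coprime.Commutator
import Cfsg.Agent.Coprime.Action
import Cfsg.Agent.Coprime.Abelian
import Cfsg.Agent.Coprime.Centralize
import Cfsg.Agent.Frobenius.FPFAut
import Cfsg.Agent.PGroups.MaxAbelian

/-!
BG 3.10: a Frobenius group `KR` acting coprimely on a nilpotent group `M` with `C_M(K) = 1` and `R` acting
in a prime manner.
-/

set_option autoImplicit false

namespace Cfsg.Agent.OddOrder.BG3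

open Subgroup
open scoped commutatorElement

universe u

variable {X : Type u} [Group X]

theorem normalizer_le_normalizer_centralizer (H : Subgroup X) :
    normalizer (H : Set X) ≤ normalizer (centralizer (H : Set X) : Set X) := by
  refine le_normalizer_iff.mpr fun g hg c hc => mem_centralizer_iff.mpr fun h hh => ?_
  have h1 := mem_centralizer_iff.mp hc _ (Coprime.conj_mem' hg hh)
  calc h * (g * c * g⁻¹) = g * (g⁻¹ * h * g * c) * g⁻¹ := by group
    _ = g * c * g⁻¹ * h := by rw [h1]; group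

theorem normalizer_le_inf {H K : Subgroup X} :
    normalizer (H : Set X) ⊓ normalizer (K : Set X) ≤ normalizer ((H ⊓ K : Subgroup X) : Set X) :=
  le_normalizer_iff.mpr fun g hg x hx =>
    ⟨Coprime.conj_mem hg.1 hx.1, Coprime.conj_mem hg.2 hx.2⟩

variable [Finite X]

/-- The Frobenius–Wielandt formula when `C_H(U) = 1`. -/
theorem fw_formula {U E H : Subgroup X} (hEU : E ≤ normalizer (U : Set X))
    (hfpf : ∀ e ∈ E, e ≠ 1 → ∀ a ∈ U, e * a = a * e → a = 1) (hU : U ≠ ⊥) (hE : E ≠ ⊥)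
    (hUH : U ≤ normalizer (H : Set X)) (hEH : E ≤ normalizer (H : Set X))
    (hsolv : Group.IsSolvable H) (hcop : (Nat.card H).Coprime (Nat.card ↥(U ⊔ E)))
    (hfix : H ⊓ centralizer (U : Set X) = ⊥) :
    Nat.card H = Nat.card ↥(H ⊓ centralizer (E : Set X)) ^ Nat.card E := by
  have hUE : U ⊓ E = ⊥ := by
    rw [eq_bot_iff]
    rintro x ⟨hxU, hxE⟩
    rw [mem_bot]
    by_contra hne
    exact hne (hfpf x hxE hne x hxU rfl)
  have hd : H ⊓ (U ⊔ E) = ⊥ := Coprime.inf_eq_bot hcop
  have h := H1.fw_card (Nat.card U + Nat.card H) U E H le_rfl hU hE hUE hd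
    ⟨hEU, hfpf, sup_le hUH hEH, hsolv, hcop⟩
  have hbot : H ⊓ centralizer ((U ⊔ E : Subgroup X) : Set X) = ⊥ :=
    le_bot_iff.mp (le_of_le_of_eq (inf_le_inf_left H (centralizer_le (SetLike.coe_subset_coe.mpr le_sup_left))) hfix)
  rwa [hbot, hfix, card_bot, one_pow, one_mul, mul_one] at h

/-- A prime order group acting without fixed points gives coprime orders. -/
theorem not_dvd_card_of_fpf {U E : Subgroup X} (hp : (Nat.card E).Prime)
    (hEU : E ≤ normalizer (U : Set X))
    (hfpf : ∀ e ∈ E, e ≠ 1 → ∀ a ∈ U, e * a = a * e → a = 1) : ¬ Nat.card E ∣ Nat.card U := by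
  have : Fact (Nat.card E).Prime := ⟨hp⟩
  let φ : E →* MulAut U := U.normalizerMonoidHom.comp (inclusion hEU)
  let : MulAction E U := MulAction.compHom U φ
  have hP : IsPGroup (Nat.card E) E := IsPGroup.of_card (n := 1) (pow_one _).symm
  have h := hP.card_modEq_card_fixedPoints U
  obtain ⟨⟨e, he⟩, he1⟩ := exists_prime_orderOf_dvd_card' (G := E) (Nat.card E) dvd_rfl
  have he' : e ≠ 1 := fun h0 => by
    subst h0
    rw [show (⟨1, he⟩ : E) = 1 from rfl, orderOf_one] at he1
    exact hp.one_lt.ne he1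
  have hfix : MulAction.fixedPoints E U = {(1 : U)} := by
    ext u
    simp only [MulAction.mem_fixedPoints, Set.mem_singleton_iff]
    constructor
    · intro hu
      refine Subtype.ext (hfpf e he he' u u.2 ?_)
      have h1 : e * (u : X) * e⁻¹ = u := congrArg Subtype.val (hu ⟨e, he⟩)
      exact mul_inv_eq_iff_eq_mul.mp h1
    · rintro rfl x
      exact map_one (φ x)
  rw [hfix, Nat.card_coe_set_eq, Set.ncard_singleton] at h
  intro hd
  have h2 := (Nat.modEq_zero_iff_dvd.mpr hd).symm.trans h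
  rw [Nat.ModEq, Nat.zero_mod, Nat.one_mod_eq_one.mpr hp.one_lt.ne'] at h2
  exact zero_ne_one h2

/-- Thompson: the kernel is nilpotent. -/
theorem isNilpotent_of_fpf_subgroup {U E : Subgroup X} (hp : (Nat.card E).Prime)
    (hEU : E ≤ normalizer (U : Set X))
    (hfpf : ∀ e ∈ E, e ≠ 1 → ∀ a ∈ U, e * a = a * e → a = 1) : Group.IsNilpotent U := by
  have : Fact (Nat.card E).Prime := ⟨hp⟩
  obtain ⟨⟨e, he⟩, he1⟩ := exists_prime_orderOf_dvd_card' (G := E) (Nat.card E) dvd_rfl
  rw [Subgroup.orderOf_mk] at he1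
  have he' : e ≠ 1 := fun h0 => by
    rw [h0, orderOf_one] at he1
    exact hp.one_lt.ne he1
  set φ : MulAut U := U.normalizerMonoidHom ⟨e, hEU he⟩ with hφ
  have hiter : ∀ (j : ℕ) (g : U), ((⇑φ)^[j] g : X) = e ^ j * g * (e ^ j)⁻¹ := by
    intro j
    induction j with
    | zero => intro g; simp
    | succ j ih =>
      intro g
      rw [Function.iterate_succ_apply']
      change e * ((⇑φ)^[j] g : X) * e⁻¹ = _
      rw [ih, pow_succ']
      group
  refine Frobenius.isNilpotent_of_fpf _ hp U φ rfl (fun g hg => Subtype.ext ?_) fun g =>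
    Subtype.ext ?_
  · have h1 : e * (g : X) * e⁻¹ = g := congrArg Subtype.val hg
    exact hfpf e he he' g g.2 (mul_inv_eq_iff_eq_mul.mp h1)
  · rw [hiter, ← he1, pow_orderOf_eq_one]
    simp

omit [Finite X] in
/-- Conjugations normalizing a cyclic subgroup commute on it. -/
theorem commutator_mem_centralizer_of_cyclic {N : Subgroup X} [IsCyclic N] {u v : X}
    (hu : u ∈ normalizer (N : Set X)) (hv : v ∈ normalizer (N : Set X)) :
    ⁅u, v⁆ ∈ centralizer (N : Set X) := by
  obtain ⟨⟨g, hg⟩, hgen⟩ := IsCyclic.exists_generator (α := N)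
  have hexp : ∀ w ∈ normalizer (N : Set X), ∃ r : ℤ, ∀ n ∈ N, w * n * w⁻¹ = n ^ r := by
    intro w hw
    obtain ⟨r, hr⟩ := mem_zpowers_iff.mp (hgen ⟨w * g * w⁻¹, Coprime.conj_mem hw hg⟩)
    refine ⟨r, fun n hn => ?_⟩
    obtain ⟨i, hi⟩ := mem_zpowers_iff.mp (hgen ⟨n, hn⟩)
    have hi' : g ^ i = n := congrArg Subtype.val hi
    have hr' : g ^ r = w * g * w⁻¹ := congrArg Subtype.val hr
    rw [← hi', ← conj_zpow, ← hr', ← zpow_mul, ← zpow_mul, mul_comm]
  obtain ⟨r, hr⟩ := hexp u hu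
  obtain ⟨s, hs⟩ := hexp v hv
  refine mem_centralizer_iff.mpr fun n hn => ?_
  have hm : (v * u)⁻¹ * n * (v * u) ∈ N := Coprime.conj_mem' (mul_mem hv hu) hn
  set m := (v * u)⁻¹ * n * (v * u) with hm'
  have h1 : ⁅u, v⁆ * n * ⁅u, v⁆⁻¹ = u * v * m * v⁻¹ * u⁻¹ := by
    rw [hm', commutatorElement_def]; group
  have h2 : u * v * m * v⁻¹ * u⁻¹ = m ^ (r * s) := by
    calc u * v * m * v⁻¹ * u⁻¹ = u * (v * m * v⁻¹) * u⁻¹ := by group
      _ = (m ^ s) ^ r := by rw [hs m hm, hr _ (zpow_mem hm s)]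
      _ = m ^ (r * s) := by rw [← zpow_mul, mul_comm]
  have h3 : n = m ^ (r * s) := by
    calc n = v * (u * m * u⁻¹) * v⁻¹ := by rw [hm']; group
      _ = m ^ (r * s) := by rw [hr m hm, hs _ (zpow_mem hm r), ← zpow_mul]
  exact (mul_inv_eq_iff_eq_mul.mp (h1.trans (h2.trans h3.symm))).symm

/-- The hypotheses of the abelian case. -/
structure ModHyp (U E H : Subgroup X) : Prop where
  normEU : E ≤ normalizer (U : Set X)
  normUH : U ≤ normalizer (H : Set X)
  normEH : E ≤ normalizer (H : Set X)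
  fpf : ∀ e ∈ E, e ≠ 1 → ∀ a ∈ U, e * a = a * e → a = 1
  prime : (Nat.card E).Prime
  comm : ∀ a ∈ H, ∀ b ∈ H, a * b = b * a
  coprime : (Nat.card H).Coprime (Nat.card ↥(U ⊔ E))
  fixU : H ⊓ centralizer (U : Set X) = ⊥
  fixE : IsCyclic ↥(H ⊓ centralizer (E : Set X))

/-- A minimal module: the derived group of the kernel acts trivially. -/
theorem derived_le_centralizer_of_minimal {U E H : Subgroup X} (D : ModHyp U E H) (hne : H ≠ ⊥)
    (hmin : ∀ N : Subgroup X, N ≤ H → U ≤ normalizer (N : Set X) → E ≤ normalizer (N : Set X) →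
      N = ⊥ ∨ N = H) :
    ⁅U, U⁆ ≤ centralizer (H : Set X) := by
  by_cases hUC : U ≤ centralizer (H : Set X)
  · exact (commutator_le_self U).trans hUC
  have hHc : IsMulCommutative H := PGroups.isMulCommutative_of_comm D.comm
  set C := centralizer (H : Set X) with hC
  have hUnC : U ≤ normalizer (C : Set X) :=
    D.normUH.trans (normalizer_le_normalizer_centralizer H)
  have hEnC : E ≤ normalizer (C : Set X) :=
    D.normEH.trans (normalizer_le_normalizer_centralizer H)
  set Z := Coprime.relCentralizer C U ⊓ U with hZ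
  have hmemZ : ∀ {z : X}, z ∈ Z ↔ z ∈ U ∧ ∀ u ∈ U, ⁅z, u⁆ ∈ C := fun {z} =>
    ⟨fun h => ⟨h.2, (Coprime.mem_relCentralizer.mp h.1).2⟩,
      fun h => ⟨Coprime.mem_relCentralizer.mpr ⟨hUnC h.1, h.2⟩, h.1⟩⟩
  -- the centre modulo the kernel is nontrivial
  obtain ⟨z₀, hz₀, hz₀C⟩ : ∃ z ∈ Z, z ∉ C := by
    have hnil := isNilpotent_of_fpf_subgroup D.prime D.normEU D.fpf
    obtain ⟨n, hn⟩ := Subgroup.nilpotent_iff_lowerCentralSeries.mp hnil
    classical
    have hex : ∃ m, (⊤ : Subgroup U).lowerCentralSeries m ≤ C.subgroupOf U :=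
      ⟨n, hn.le.trans bot_le⟩
    have hk := Nat.find_spec hex
    rcases Nat.eq_zero_or_pos (Nat.find hex) with h0 | h0
    · rw [h0, Subgroup.lowerCentralSeries_zero] at hk
      exact absurd (subgroupOf_eq_top.mp (top_le_iff.mp hk)) hUC
    · obtain ⟨j, hj⟩ : ∃ j, Nat.find hex = j + 1 := ⟨Nat.find hex - 1, by omega⟩
      obtain ⟨z, hz, hzC⟩ := SetLike.not_le_iff_exists.mp (Nat.find_min hex (m := j) (by omega))
      refine ⟨z, hmemZ.mpr ⟨z.2, fun w hw => ?_⟩, hzC⟩
      rw [hj, Subgroup.lowerCentralSeries_succ] at hk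
      exact hk (commutator_mem_commutator hz (mem_top (⟨w, hw⟩ : U)))
  have hZU : Z ≤ U := inf_le_right
  have hEZ : E ≤ normalizer (Z : Set X) := by
    refine le_normalizer_iff.mpr fun e he z hz => hmemZ.mpr ⟨Coprime.conj_mem (D.normEU he) (hZU hz),
      fun w hw => ?_⟩
    have h1 := (hmemZ.mp hz).2 _ (Coprime.conj_mem' (D.normEU he) hw)
    have h2 := Coprime.conj_mem (hEnC he) h1
    have e1 : e * ⁅z, e⁻¹ * w * e⁆ * e⁻¹ = ⁅e * z * e⁻¹, w⁆ := by
      simp only [commutatorElement_def]; group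
    rwa [e1] at h2
  have hUZ : U ≤ normalizer (Z : Set X) := by
    refine le_normalizer_iff.mpr fun w hw z hz => hmemZ.mpr ⟨mul_mem (mul_mem hw (hZU hz)) (inv_mem hw),
      fun v hv => ?_⟩
    have h1 := (hmemZ.mp hz).2 _ (mul_mem (mul_mem (inv_mem hw) hv) hw)
    have h2 := Coprime.conj_mem (hUnC hw) h1
    have e1 : w * ⁅z, w⁻¹ * v * w⁆ * w⁻¹ = ⁅w * z * w⁻¹, v⁆ := by
      simp only [commutatorElement_def]; group
    rwa [e1] at h2
  have hHZ : H ⊓ centralizer (Z : Set X) = ⊥ := by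
    refine (hmin _ inf_le_left ?_ ?_).resolve_right fun h => hz₀C ?_
    · exact (le_inf D.normUH (hUZ.trans (normalizer_le_normalizer_centralizer Z))).trans
        normalizer_le_inf
    · exact (le_inf D.normEH (hEZ.trans (normalizer_le_normalizer_centralizer Z))).trans
        normalizer_le_inf
    · have h1 : H ≤ centralizer (Z : Set X) := h ▸ inf_le_right
      exact le_centralizer_iff.mp h1 hz₀
  have hZbot : Z ≠ ⊥ := fun e => hz₀C (by rw [e, mem_bot] at hz₀; rw [hz₀]; exact one_mem _)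
  have hEne : E ≠ ⊥ := fun e => D.prime.ne_one (by rw [e, card_bot])
  have hfpfZ : ∀ e ∈ E, e ≠ 1 → ∀ a ∈ Z, e * a = a * e → a = 1 :=
    fun e he he1 a ha => D.fpf e he he1 a (hZU ha)
  -- `H` has prime exponent
  have hHsolv : Group.IsSolvable H := Coprime.isSolvable_of_isMulCommutative
  have hcard : ∀ N : Subgroup X, N ≤ H → Z ≤ normalizer (N : Set X) → E ≤ normalizer (N : Set X) →
      Nat.card N = Nat.card ↥(N ⊓ centralizer (E : Set X)) ^ Nat.card E := by
    intro N hN hZN hEN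
    refine fw_formula hEZ hfpfZ hZbot hEne hZN hEN (Coprime.isSolvable_of_le hN hHsolv) ?_
      (le_bot_iff.mp (le_of_le_of_eq (inf_le_inf_right _ hN) hHZ))
    exact (D.coprime.coprime_dvd_left (card_dvd_of_le hN)).coprime_dvd_right
      (card_dvd_of_le (sup_le_sup_right hZU E))
  obtain ⟨l, hl, hld⟩ := Nat.exists_prime_and_dvd (mt card_eq_one.mp hne)
  have : Fact l.Prime := ⟨hl⟩
  let Ω : Subgroup X :=
    { carrier := {h | h ∈ H ∧ h ^ l = 1}
      one_mem' := ⟨one_mem _, one_pow l⟩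
      mul_mem' := fun {a b} ha hb => ⟨mul_mem ha.1 hb.1, by
        rw [Commute.mul_pow (D.comm a ha.1 b hb.1), ha.2, hb.2, one_mul]⟩
      inv_mem' := fun {a} ha => ⟨inv_mem ha.1, by rw [inv_pow, ha.2, inv_one]⟩ }
  have hΩn : normalizer (H : Set X) ≤ normalizer (Ω : Set X) :=
    le_normalizer_iff.mpr fun g hg h hh =>
      ⟨Coprime.conj_mem hg hh.1, by rw [conj_pow, hh.2, mul_one, mul_inv_cancel]⟩
  have hΩ : Ω = H := by
    refine (hmin Ω (fun h hh => hh.1) (D.normUH.trans hΩn) (D.normEH.trans hΩn)).resolve_left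
      fun h0 => ?_
    obtain ⟨x, hx⟩ := exists_prime_orderOf_dvd_card' (G := H) l hld
    have h1 : (x : X) ∈ Ω := ⟨x.2, by
      rw [← hx, ← Subgroup.orderOf_coe, pow_orderOf_eq_one]⟩
    rw [h0, mem_bot] at h1
    rw [← Subgroup.orderOf_coe, h1, orderOf_one] at hx
    exact hl.ne_one hx.symm
  have hexp : ∀ h ∈ H, h ^ l = 1 := fun h hh => (hΩ.ge hh).2
  have hCl : Nat.card ↥(H ⊓ centralizer (E : Set X)) ∣ l := by
    have := D.fixE
    rw [← IsCyclic.exponent_eq_card]
    exact Monoid.exponent_dvd_of_forall_pow_eq_one fun g => Subtype.ext (by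
      simpa using hexp g g.2.1)
  have hminZ : ∀ N : Subgroup X, N ≤ H → Z ≤ normalizer (N : Set X) →
      E ≤ normalizer (N : Set X) → N = ⊥ ∨ N = H := by
    intro N hN hZN hEN
    refine or_iff_not_imp_left.mpr fun hN0 => eq_of_le_of_card_ge hN ?_
    have h1 := hcard N hN hZN hEN
    have h2 := hcard H le_rfl (hZU.trans D.normUH) D.normEH
    have hle : N ⊓ centralizer (E : Set X) ≤ H ⊓ centralizer (E : Set X) := inf_le_inf_right _ hN
    rcases (Nat.dvd_prime hl).mp ((card_dvd_of_le hle).trans hCl) with h3 | h3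
    · rw [h3, one_pow] at h1
      exact absurd (card_eq_one.mp h1) hN0
    · rw [h2, h1, h3]
      exact Nat.pow_le_pow_left (Nat.le_of_dvd hl.pos hCl) _
  have hcopUE : (Nat.card E).Coprime (Nat.card U) :=
    D.prime.coprime_iff_not_dvd.mpr (not_dvd_card_of_fpf D.prime D.normEU D.fpf)
  have hfpfC : ∀ x ∈ E, x ≠ 1 → ∀ a ∈ U, x * a * x⁻¹ * a⁻¹ ∈ C → a ∈ C := by
    intro x hx hx1 a ha hxa
    have hx' : zpowers x ≤ E := zpowers_le.mpr hx
    have hUn : U ≤ normalizer ((U ⊓ C : Subgroup X) : Set X) :=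
      (le_inf le_normalizer hUnC).trans normalizer_le_inf
    obtain ⟨c, hc, hac⟩ := Coprime.exists_centralizer_mem_of_comm_mem
      (A := zpowers x) (K := U) (hx'.trans D.normEU)
      (hcopUE.coprime_dvd_left (card_dvd_of_le hx')) (Or.inl inferInstance)
      (N := U ⊓ C) inf_le_left hUn
      ((le_inf (hx'.trans D.normEU) (hx'.trans hEnC)).trans normalizer_le_inf) ha
      (fun b hb => by
        obtain ⟨i, rfl⟩ := mem_zpowers_iff.mp hb
        refine ⟨U.mul_mem (Coprime.conj_mem (D.normEU (Subgroup.zpow_mem E hx i)) ha) (U.inv_mem ha), ?_⟩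
        let S : Subgroup X :=
          { carrier := {g | g ∈ E ∧ g * a * g⁻¹ * a⁻¹ ∈ C}
            one_mem' := ⟨one_mem _, by simp⟩
            mul_mem' := fun {g h} hg hh => ⟨mul_mem hg.1 hh.1, by
              have h1 := mul_mem (Coprime.conj_mem (hEnC hg.1) hh.2) hg.2
              rwa [show g * (h * a * h⁻¹ * a⁻¹) * g⁻¹ * (g * a * g⁻¹ * a⁻¹) =
                g * h * a * (g * h)⁻¹ * a⁻¹ by group] at h1⟩
            inv_mem' := fun {g} hg => ⟨inv_mem hg.1, by
              have h1 := Coprime.conj_mem' (hEnC hg.1) (inv_mem hg.2)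
              rwa [show g⁻¹ * (g * a * g⁻¹ * a⁻¹)⁻¹ * g = g⁻¹ * a * g⁻¹⁻¹ * a⁻¹ by group]
                at h1⟩ }
        exact (zpow_mem (show x ∈ S from ⟨hx, hxa⟩) i).2)
    have hc1 : c = 1 := D.fpf x hx hx1 c hc.1 (mem_centralizer_iff.mp hc.2 x (mem_zpowers x))
    rw [hc1, mul_one, inv_mem_iff] at hac
    exact hac.2
  have hD : ChiefData H Z E :=
    { comm := D.comm
      normU := hZU.trans D.normUH
      normE := D.normEH
      normUE := hEZ
      ne := hne
      prime := D.prime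
      minimal := hminZ
      fixU := hHZ
      fixE := D.fixE
      comm_U := fun a ha b hb => by
        rw [← commutatorElement_def]
        exact (hmemZ.mp ha).2 b (hZU hb)
      fpf := fun x hx hx1 a ha => hfpfC x hx hx1 a (hZU ha) }
  have hzu : ∀ z ∈ Z, ∀ w ∈ U, ∀ h ∈ H, w * (z * h * z⁻¹) * w⁻¹ = z * (w * h * w⁻¹) * z⁻¹ := by
    intro z hz w hw h hh
    have hH' : w * h * w⁻¹ ∈ H := Coprime.conj_mem (D.normUH hw) hh
    have h1 := mem_centralizer_iff.mp ((hmemZ.mp hz).2 w hw) _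
      (Coprime.conj_mem (D.normUH hw) (Coprime.conj_mem (D.normUH (hZU hz)) hh))
    calc w * (z * h * z⁻¹) * w⁻¹
        = ⁅z, w⁆ * (w * (z * h * z⁻¹) * w⁻¹) * ⁅z, w⁆⁻¹ := by rw [← h1, mul_inv_cancel_right]
      _ = z * (w * h * w⁻¹) * z⁻¹ := by rw [commutatorElement_def]; group
  obtain ⟨p, hp, ⟨-, hHp⟩, -, -, hcase⟩ := chief_dichotomy hD
  rcases hcase with ⟨F, hF, hFfin, f, ψ, σ, -, hbij, hadd, hψ, -, -, -, -, -, hirr⟩ |
    ⟨N, hNH, hZN, hNcard, hHgen⟩
  · -- `U` acts by scalars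
    let g : U → H → H := fun w h => ⟨w * (h : X) * (w : X)⁻¹, Coprime.conj_mem (D.normUH w.2) h.2⟩
    obtain ⟨fi, hfl, hfr⟩ := Function.bijective_iff_has_inverse.mp hbij
    let γ : U → F → F := fun w x => f (g w (fi x))
    have hadd' : ∀ x y, fi (x + y) = fi x * fi y := fun x y => by
      apply hbij.injective
      rw [hadd, hfr, hfr, hfr]
    have hγadd : ∀ w x y, γ w (x + y) = γ w x + γ w y := fun w x y => by
      change f (g w (fi (x + y))) = f (g w (fi x)) + f (g w (fi y))
      rw [← hadd, hadd']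
      congr 1
      refine Subtype.ext ?_
      simp [g, mul_assoc]
    have hscal : ∀ (z : Z) (h : H), ∃ h' : H, (h' : X) = z * (h : X) * (z : X)⁻¹ := fun z h =>
      ⟨⟨_, Coprime.conj_mem (D.normUH (hZU z.2)) h.2⟩, rfl⟩
    have hγψ : ∀ w (z : Z) x, γ w ((ψ z : F) * x) = (ψ z : F) * γ w x := by
      intro w z x
      obtain ⟨h', hh'⟩ := hscal z (fi x)
      have h1 : (ψ z : F) * x = f h' := by rw [hψ z (fi x) h' hh', hfr]
      have h2 : fi ((ψ z : F) * x) = h' := by rw [h1, hfl]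
      change f (g w (fi ((ψ z : F) * x))) = (ψ z : F) * f (g w (fi x))
      rw [h2, ← hψ z (g w (fi x)) (g w h') ?_]
      change (w : X) * (h' : X) * (w : X)⁻¹ = z * ((w : X) * (fi x : X) * (w : X)⁻¹) * (z : X)⁻¹
      rw [hh', hzu z z.2 w w.2 _ (fi x).2]
    have hlin : ∀ w a x, γ w (a * x) = a * γ w x := by
      intro w
      have h0 : γ w 0 = 0 := by
        have := hγadd w 0 0
        rw [add_zero] at this
        simpa using this
      let S : AddSubgroup F :=
        { carrier := {a | ∀ x, γ w (a * x) = a * γ w x}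
          zero_mem' := fun x => by rw [zero_mul, zero_mul, h0]
          add_mem' := fun {a b} ha hb x => by rw [add_mul, hγadd, ha, hb, add_mul]
          neg_mem' := fun {a} ha x => by
            have h1 := hγadd w (-a * x) (a * x)
            rw [neg_mul, neg_add_cancel, h0, ha] at h1
            rw [neg_mul, neg_mul]
            exact eq_neg_of_add_eq_zero_left h1.symm }
      let N₀ : Subgroup X :=
        { carrier := {y | ∃ hy : y ∈ H, f ⟨y, hy⟩ ∈ S}
          one_mem' := ⟨one_mem _, by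
            have h1 := hadd 1 1
            rw [one_mul] at h1
            rw [show f ⟨1, one_mem _⟩ = 0 from (by simpa using h1 : f 1 = 0)]
            exact zero_mem S⟩
          mul_mem' := fun {a b} ha hb => by
            obtain ⟨ha, ha'⟩ := ha
            obtain ⟨hb, hb'⟩ := hb
            refine ⟨mul_mem ha hb, ?_⟩
            rw [show (⟨a * b, mul_mem ha hb⟩ : H) = ⟨a, ha⟩ * ⟨b, hb⟩ from rfl, hadd]
            exact add_mem ha' hb'
          inv_mem' := fun {a} ha => by
            obtain ⟨ha, ha'⟩ := ha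
            refine ⟨inv_mem ha, ?_⟩
            have h1 := hadd ⟨a⁻¹, inv_mem ha⟩ ⟨a, ha⟩
            have h2 := hadd 1 1
            rw [one_mul] at h2
            rw [show (⟨a⁻¹, inv_mem ha⟩ : H) * ⟨a, ha⟩ = 1 from Subtype.ext (inv_mul_cancel a),
              show f 1 = 0 from by simpa using h2] at h1
            rw [eq_neg_of_add_eq_zero_left h1.symm]
            exact neg_mem ha' }
      have hN₀n : Z ≤ normalizer (N₀ : Set X) := by
        refine le_normalizer_iff.mpr fun z hz y hy => ?_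
        obtain ⟨hy, hy'⟩ := hy
        refine ⟨Coprime.conj_mem (D.normUH (hZU hz)) hy, fun x => ?_⟩
        rw [hψ ⟨z, hz⟩ ⟨y, hy⟩ ⟨_, Coprime.conj_mem (D.normUH (hZU hz)) hy⟩ rfl, mul_assoc, hγψ, hy',
          mul_assoc]
      rcases hirr N₀ (fun y hy => hy.1) hN₀n with h1 | h1
      · exfalso
        have hmem : ((fi 1 : H) : X) ∈ N₀ := ⟨(fi 1).2, fun x => by rw [hfr, one_mul, one_mul]⟩
        rw [h1, mem_bot] at hmem
        have hfi : fi 1 = 1 := Subtype.ext hmem
        have h2 := hfr 1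
        have h3 := hadd 1 1
        rw [one_mul] at h3
        rw [hfi, show f 1 = 0 from by simpa using h3] at h2
        exact zero_ne_one h2
      · intro a x
        obtain ⟨hy, hy'⟩ := h1.ge (fi a).2
        have := hy' x
        rwa [hfr] at this
    refine commutator_le.mpr fun w hw v hv => mem_centralizer_iff.mpr fun h hh => ?_
    have hgm : ∀ (w : U) (h : H), f (g w h) = f h * γ w 1 := by
      intro w h
      conv_lhs => rw [← hfl h]
      change γ w (f h) = _
      conv_lhs => rw [← mul_one (f h)]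
      rw [hlin]
    have hcom : ∀ (w v : U) (h : H), g w (g v h) = g v (g w h) := fun w v h => hbij.injective (by
      rw [hgm, hgm, hgm, hgm, mul_assoc, mul_assoc, mul_comm (γ v 1)])
    set h0 : H := ⟨(v * w)⁻¹ * h * (v * w),
      Coprime.conj_mem' (mul_mem (D.normUH hv) (D.normUH hw)) hh⟩
    have h1 := congrArg Subtype.val (hcom ⟨w, hw⟩ ⟨v, hv⟩ h0)
    simp only [g, h0] at h1
    have h2 : ⁅w, v⁆ * h * ⁅w, v⁆⁻¹ = h := by
      calc ⁅w, v⁆ * h * ⁅w, v⁆⁻¹ = w * (v * ((v * w)⁻¹ * h * (v * w)) * v⁻¹) * w⁻¹ := by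
            rw [commutatorElement_def]; group
        _ = v * (w * ((v * w)⁻¹ * h * (v * w)) * w⁻¹) * v⁻¹ := h1
        _ = h := by group
    exact (mul_inv_eq_iff_eq_mul.mp h2).symm
  · -- the conjugates of `N` are invariant
    have : Fact p.Prime := ⟨hp⟩
    have hNc : IsCyclic N := isCyclic_of_prime_card hNcard
    obtain ⟨⟨n₀, hn₀⟩, hgen⟩ := IsCyclic.exists_generator (α := N)
    have hexpN : ∀ z : X, z ∈ Z → ∃ t : ℤ, ∀ n ∈ N, z * n * z⁻¹ = n ^ t := by
      intro z hz
      obtain ⟨t, ht⟩ := mem_zpowers_iff.mp (hgen ⟨z * n₀ * z⁻¹, Coprime.conj_mem (hZN hz) hn₀⟩)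
      refine ⟨t, fun n hn => ?_⟩
      obtain ⟨i, hi⟩ := mem_zpowers_iff.mp (hgen ⟨n, hn⟩)
      have hi' : n₀ ^ i = n := congrArg Subtype.val hi
      have ht' : n₀ ^ t = z * n₀ * z⁻¹ := congrArg Subtype.val ht
      rw [← hi', ← conj_zpow, ← ht', ← zpow_mul, ← zpow_mul, mul_comm]
    choose t ht using hexpN
    have hn₀1 : n₀ ≠ 1 := fun h0 => by
      have : N = ⊥ := eq_bot_iff.mpr fun n hn => by
        obtain ⟨i, hi⟩ := mem_zpowers_iff.mp (hgen ⟨n, hn⟩)
        have hi' : n₀ ^ i = n := congrArg Subtype.val hi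
        rw [mem_bot, ← hi', h0, one_zpow]
      rw [this, card_bot] at hNcard
      exact hp.ne_one hNcard.symm
    have ho : orderOf n₀ = p := orderOf_eq_prime (hHp n₀ (hNH hn₀)) hn₀1
    -- the characters are distinct
    have hdist : ∀ x ∈ E, x ≠ 1 → ∃ z, ∃ hz : z ∈ Z, ∃ hz' : x⁻¹ * z * x ∈ Z,
        ¬ (p : ℤ) ∣ t z hz - t _ hz' := by
      intro x hx hx1
      by_contra hall
      push Not at hall
      let S : Subgroup X :=
        { carrier := {g | g ∈ E ∧ ∀ z ∈ Z, ∀ n ∈ N, (g⁻¹ * z * g) * n * (g⁻¹ * z * g)⁻¹ = z * n * z⁻¹}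
          one_mem' := ⟨one_mem _, fun z _ n _ => by simp⟩
          mul_mem' := fun {g h} hg hh => ⟨mul_mem hg.1 hh.1, fun z hz n hn => by
            rw [show (g * h)⁻¹ * z * (g * h) = h⁻¹ * (g⁻¹ * z * g) * h by group,
              hh.2 _ (Coprime.conj_mem' (hEZ hg.1) hz) n hn, hg.2 z hz n hn]⟩
          inv_mem' := fun {g} hg => ⟨inv_mem hg.1, fun z hz n hn => by
            have h1 := hg.2 _ (Coprime.conj_mem (hEZ hg.1) hz) n hn
            rw [show g⁻¹ * (g * z * g⁻¹) * g = z by group] at h1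
            rw [inv_inv]
            exact h1.symm⟩ }
      have hxS : x ∈ S := by
        refine ⟨hx, fun z hz n hn => ?_⟩
        have hz' := Coprime.conj_mem' (hEZ hx) hz
        rw [ht _ hz' n hn, ht z hz n hn]
        obtain ⟨c, hc⟩ := hall z hz hz'
        have hnp : n ^ (t z hz - t _ hz') = 1 := by
          rw [hc, zpow_mul, zpow_natCast, hHp n (hNH hn), one_zpow]
        rw [zpow_sub, mul_inv_eq_one] at hnp
        exact hnp.symm
      have hES : E ≤ S := by
        have h1 : zpowers x = E := eq_of_le_of_card_ge (zpowers_le.mpr hx) (le_of_eq (by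
          rcases (Nat.dvd_prime D.prime).mp (E.orderOf_dvd_natCard hx) with h2 | h2
          · exact absurd (orderOf_eq_one_iff.mp h2) hx1
          · rw [Nat.card_zpowers, h2]))
        exact h1 ▸ zpowers_le.mpr hxS
      have hscal : ∀ z (hz : z ∈ Z), ∀ h ∈ H, z * h * z⁻¹ = h ^ t z hz := by
        intro z hz
        let T : Subgroup X :=
          { carrier := {h | h ∈ H ∧ z * h * z⁻¹ = h ^ t z hz}
            one_mem' := ⟨one_mem _, by simp⟩
            mul_mem' := fun {a b} ha hb => ⟨mul_mem ha.1 hb.1, by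
              rw [Commute.mul_zpow (D.comm a ha.1 b hb.1), ← ha.2, ← hb.2]; group⟩
            inv_mem' := fun {a} ha => ⟨inv_mem ha.1, by rw [inv_zpow, ← ha.2]; group⟩ }
        have hHT : H ≤ T := by
          conv_lhs => rw [hHgen]
          refine iSup_le fun g => ?_
          rintro _ ⟨n, hn, rfl⟩
          refine ⟨Coprime.conj_mem (D.normEH g.2) (hNH hn), ?_⟩
          change z * ((g : X) * n * (g : X)⁻¹) * z⁻¹ = ((g : X) * n * (g : X)⁻¹) ^ t z hz
          have h1 := (hES g.2).2 z hz n hn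
          rw [conj_zpow, ← ht z hz n hn, ← h1]
          group
        exact fun h hh => (hHT hh).2
      refine hz₀C (hfpfC x hx hx1 z₀ (hZU hz₀) (mem_centralizer_iff.mpr fun h hh => ?_))
      obtain ⟨h1, hh1, rfl⟩ : ∃ h1 ∈ H, h = z₀ * h1 * z₀⁻¹ :=
        ⟨z₀⁻¹ * h * z₀, Coprime.conj_mem' (D.normUH (hZU hz₀)) hh, by group⟩
      refine (mul_inv_eq_iff_eq_mul.mp ?_).symm
      calc x * z₀ * x⁻¹ * z₀⁻¹ * (z₀ * h1 * z₀⁻¹) * (x * z₀ * x⁻¹ * z₀⁻¹)⁻¹
          = x * (z₀ * (x⁻¹ * h1 * x) * z₀⁻¹) * x⁻¹ := by group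
        _ = h1 ^ t z₀ hz₀ := by
            rw [hscal z₀ hz₀ _ (Coprime.conj_mem' (D.normEH hx) hh1), ← conj_zpow]
            congr 1
            group
        _ = z₀ * h1 * z₀⁻¹ := (hscal z₀ hz₀ h1 hh1).symm
    -- the projection to `N`
    classical
    have := Fintype.ofFinite E
    have hNU : U ≤ normalizer (N : Set X) := by
      have hproj : ∀ s : Finset E, (1 : E) ∉ s → ∃ φ : X → X, (∀ h ∈ H, φ h ∈ H) ∧
          (∀ a ∈ H, ∀ b ∈ H, φ (a * b) = φ a * φ b) ∧
          (∀ w ∈ U, ∀ h ∈ H, φ (w * h * w⁻¹) = w * φ h * w⁻¹) ∧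
          (∀ y ∈ s, ∀ n ∈ N, φ ((y : X) * n * (y : X)⁻¹) = 1) ∧
          ∃ c : ℤ, ¬ (p : ℤ) ∣ c ∧ ∀ n ∈ N, φ n = n ^ c := by
        intro s
        induction s using Finset.induction_on with
        | empty =>
          exact fun _ => ⟨id, fun h hh => hh, fun _ _ _ _ => rfl, fun _ _ _ _ => rfl, by simp,
            1, fun h => hp.ne_one (Nat.dvd_one.mp (Int.natCast_dvd_natCast.mp (by simpa using h))),
            fun n _ => (zpow_one n).symm⟩
        | insert y s hys ih =>
          intro h1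
          rw [Finset.mem_insert, not_or] at h1
          obtain ⟨φ, hφH, hφm, hφu, hφk, c, hc, hφc⟩ := ih h1.2
          obtain ⟨z, hz, hz', hzd⟩ := hdist y y.2 fun h => h1.1 (Subtype.ext h).symm
          set t' := t _ hz' with ht'
          let ψ' : X → X := fun h => z * h * z⁻¹ * (h ^ t')⁻¹
          have hψH : ∀ h ∈ H, ψ' h ∈ H := fun h hh =>
            mul_mem (Coprime.conj_mem (D.normUH (hZU hz)) hh) (inv_mem (zpow_mem hh t'))
          have hψm : ∀ a ∈ H, ∀ b ∈ H, ψ' (a * b) = ψ' a * ψ' b := by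
            intro a ha b hb
            change z * (a * b) * z⁻¹ * ((a * b) ^ t')⁻¹ =
              z * a * z⁻¹ * (a ^ t')⁻¹ * (z * b * z⁻¹ * (b ^ t')⁻¹)
            have e : Commute ((a ^ t')⁻¹) (z * b * z⁻¹) :=
              D.comm _ (inv_mem (zpow_mem ha t')) _ (Coprime.conj_mem (D.normUH (hZU hz)) hb)
            rw [Commute.mul_zpow (D.comm a ha b hb), mul_inv_rev]
            calc z * (a * b) * z⁻¹ * ((b ^ t')⁻¹ * (a ^ t')⁻¹)
                = z * a * z⁻¹ * (z * b * z⁻¹) * ((b ^ t')⁻¹ * (a ^ t')⁻¹) := by group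
              _ = z * a * z⁻¹ * (z * b * z⁻¹) * ((a ^ t')⁻¹ * (b ^ t')⁻¹) := by
                  rw [D.comm _ (inv_mem (zpow_mem hb t')) _ (inv_mem (zpow_mem ha t'))]
              _ = _ := by rw [mul_assoc (z * a * z⁻¹), ← mul_assoc (z * b * z⁻¹), ← e.eq]; group
          refine ⟨fun h => ψ' (φ h), fun h hh => hψH _ (hφH h hh), fun a ha b hb => by
            change ψ' (φ (a * b)) = _
            rw [hφm a ha b hb, hψm _ (hφH a ha) _ (hφH b hb)], ?_, ?_, c * (t z hz - t'), ?_, ?_⟩
          · intro w hw h hh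
            change ψ' (φ (w * h * w⁻¹)) = w * ψ' (φ h) * w⁻¹
            rw [hφu w hw h hh]
            change z * (w * φ h * w⁻¹) * z⁻¹ * ((w * φ h * w⁻¹) ^ t')⁻¹ =
              w * (z * φ h * z⁻¹ * (φ h ^ t')⁻¹) * w⁻¹
            rw [← hzu z hz w hw _ (hφH h hh), conj_zpow]
            group
          · intro y' hy' n hn
            rcases Finset.mem_insert.mp hy' with rfl | hy'
            · change ψ' (φ _) = 1
              have hψ0 : ψ' ((y' : X) * n * (y' : X)⁻¹) = 1 := by
                change z * ((y' : X) * n * (y' : X)⁻¹) * z⁻¹ * (((y' : X) * n * (y' : X)⁻¹) ^ t')⁻¹ = 1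
                rw [mul_inv_eq_one, conj_zpow, ht', ← ht _ hz' n hn]
                group
              -- the two maps commute on `H`
              have hcm : ∀ h ∈ H, ψ' (φ h) = φ (ψ' h) := by
                intro h hh
                change z * φ h * z⁻¹ * (φ h ^ t')⁻¹ = φ (z * h * z⁻¹ * (h ^ t')⁻¹)
                have hmem : ∀ a ∈ H, ∀ m : ℤ, φ (a ^ m) = φ a ^ m := by
                  intro a ha m
                  let Φ : H →* H := MonoidHom.mk' (fun b => ⟨φ b, hφH b b.2⟩)
                    fun b b' => Subtype.ext (hφm b b.2 b' b'.2)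
                  have := congrArg Subtype.val (map_zpow Φ ⟨a, ha⟩ m)
                  simpa [Φ] using this
                rw [hφm _ (Coprime.conj_mem (D.normUH (hZU hz)) hh) _ (inv_mem (zpow_mem hh t')),
                  hφu z (hZU hz) h hh, ← zpow_neg, ← zpow_neg, hmem h hh]
              rw [hcm _ (Coprime.conj_mem (D.normEH y'.2) (hNH hn)), hψ0]
              have h2 := hφm 1 (one_mem _) 1 (one_mem _)
              rw [one_mul] at h2
              simpa using h2
            · change ψ' (φ _) = 1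
              rw [hφk y' hy' n hn]
              simp [ψ']
          · intro hd
            exact ((Nat.prime_iff_prime_int.mp hp).dvd_or_dvd hd).elim hc hzd
          · intro n hn
            change ψ' (φ n) = _
            rw [hφc n hn]
            change z * n ^ c * z⁻¹ * ((n ^ c) ^ t')⁻¹ = _
            rw [ht z hz _ (zpow_mem hn c), ← zpow_mul, ← zpow_mul, mul_sub, zpow_sub]
      obtain ⟨φ, hφH, hφm, hφu, hφk, c, hc, hφc⟩ :=
        hproj (Finset.univ.erase 1) (Finset.notMem_erase 1 _)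
      let T : Subgroup X :=
        { carrier := {h | h ∈ H ∧ φ h ∈ N}
          one_mem' := ⟨one_mem _, by
            have h2 := hφm 1 (one_mem _) 1 (one_mem _)
            rw [one_mul] at h2
            rw [show φ 1 = 1 from by simpa using h2]
            exact one_mem _⟩
          mul_mem' := fun {a b} ha hb => ⟨mul_mem ha.1 hb.1, by
            rw [hφm a ha.1 b hb.1]; exact mul_mem ha.2 hb.2⟩
          inv_mem' := fun {a} ha => ⟨inv_mem ha.1, by
            have h1 := hφm a⁻¹ (inv_mem ha.1) a ha.1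
            have h2 := hφm 1 (one_mem _) 1 (one_mem _)
            rw [one_mul] at h2
            rw [inv_mul_cancel, show φ 1 = 1 from by simpa using h2] at h1
            rw [eq_inv_of_mul_eq_one_left h1.symm]
            exact inv_mem ha.2⟩ }
      have hHT : H ≤ T := by
        conv_lhs => rw [hHgen]
        refine iSup_le fun g => ?_
        rintro _ ⟨n, hn, rfl⟩
        refine ⟨Coprime.conj_mem (D.normEH g.2) (hNH hn), ?_⟩
        by_cases hg : g = 1
        · subst hg
          simp only [Subgroup.coe_one, map_one, MulEquiv.coe_toMonoidHom, MulAut.one_apply]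
          rw [hφc n hn]
          exact zpow_mem hn c
        · change φ ((g : X) * n * (g : X)⁻¹) ∈ N
          rw [hφk g (Finset.mem_erase.mpr ⟨hg, Finset.mem_univ _⟩) n hn]
          exact one_mem _
      refine le_normalizer_iff.mpr fun w hw n hn => ?_
      have h1 : w * n * w⁻¹ ∈ H := Coprime.conj_mem (D.normUH hw) (hNH hn)
      have h2 := (hHT h1).2
      rw [hφu w hw n (hNH hn), hφc n hn, ← conj_zpow] at h2
      obtain ⟨a, b, hab⟩ := (Nat.prime_iff_prime_int.mp hp).coprime_iff_not_dvd.mpr hc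
      have h3 : w * n * w⁻¹ = ((w * n * w⁻¹) ^ c) ^ b := by
        calc w * n * w⁻¹ = (w * n * w⁻¹) ^ (a * p + b * c) := by rw [hab, zpow_one]
          _ = ((w * n * w⁻¹) ^ c) ^ b := by
            rw [mul_comm a, mul_comm b, zpow_add, zpow_mul, zpow_mul, zpow_natCast, hHp _ h1,
              one_zpow, one_mul]
      exact h3 ▸ zpow_mem h2 b
    refine commutator_le.mpr fun w hw v hv => ?_
    refine mem_centralizer_iff.mpr fun h hh => ?_
    have hle : H ≤ centralizer ({⁅w, v⁆} : Set X) := by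
      conv_lhs => rw [hHgen]
      refine iSup_le fun g => ?_
      have hn : ∀ a ∈ U, a ∈ normalizer ((N.map (MulAut.conj (g : X)).toMonoidHom : Subgroup X) : Set X) := by
        intro a ha
        have h1 := hNU (Coprime.conj_mem' (D.normEU g.2) ha)
        refine Coprime.mem_normalizer_of_map_conj ?_
        rw [Coprime.map_conj_map_conj]
        have h2 := Coprime.map_conj_eq h1
        conv_rhs => rw [← h2, Coprime.map_conj_map_conj]
        congr 2
        simp [mul_assoc]
      have : IsCyclic ↥(N.map (MulAut.conj (g : X)).toMonoidHom) :=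
        isCyclic_of_surjective _ ((MulAut.conj (g : X)).toMonoidHom.subgroupMap_surjective N)
      intro m hm
      exact mem_centralizer_singleton_iff.mpr (mem_centralizer_iff.mp
        (commutator_mem_centralizer_of_cyclic (hn w hw) (hn v hv)) m hm)
    exact mem_centralizer_singleton_iff.mp (hle hh)

/-- The abelian case. -/
theorem derived_le_centralizer_of_abelian {U E H : Subgroup X} (D : ModHyp U E H) :
    ⁅U, U⁆ ≤ centralizer (H : Set X) := by
  set U' := ⁅U, U⁆ with hU'
  have hU'U : U' ≤ U := commutator_le_self U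
  have : IsMulCommutative H := PGroups.isMulCommutative_of_comm D.comm
  have hcop' : (Nat.card U').Coprime (Nat.card H) :=
    (D.coprime.coprime_dvd_right (card_dvd_of_le (hU'U.trans le_sup_left))).symm
  obtain ⟨hd, -⟩ := Coprime.abelian_decomposition (V := H) (A := U') (hU'U.trans D.normUH) hcop'
  rw [← commutator_eq_bot_iff_le_centralizer, commutator_comm]
  by_contra hne
  set Q := ⁅H, U'⁆ with hQ
  have hQH : Q ≤ H := Coprime.commutator_le_left_of_normalizer (hU'U.trans D.normUH)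
  have hnormQ : ∀ A : Subgroup X, A ≤ normalizer (H : Set X) → A ≤ normalizer (U : Set X) →
      A ≤ normalizer (Q : Set X) := fun A hAH hAU a ha =>
    Coprime.mem_normalizer_commutator (hAH ha)
      (Coprime.mem_normalizer_commutator (hAU ha) (hAU ha))
  obtain ⟨H₁, ⟨hH₁Q, hH₁0, hUH₁, hEH₁⟩, hmin⟩ := (Set.toFinite
    {N : Subgroup X | N ≤ Q ∧ N ≠ ⊥ ∧ U ≤ normalizer (N : Set X) ∧ E ≤ normalizer (N : Set X)}).exists_minimal
    ⟨Q, le_rfl, hne, hnormQ U D.normUH le_normalizer, hnormQ E D.normEH D.normEU⟩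
  have hle := hH₁Q.trans hQH
  have D₁ : ModHyp U E H₁ :=
    { normEU := D.normEU
      normUH := hUH₁
      normEH := hEH₁
      fpf := D.fpf
      prime := D.prime
      comm := fun a ha b hb => D.comm a (hle ha) b (hle hb)
      coprime := D.coprime.coprime_dvd_left (card_dvd_of_le hle)
      fixU := le_bot_iff.mp (le_of_le_of_eq (inf_le_inf_right _ hle) D.fixU)
      fixE := by
        have := D.fixE
        exact isCyclic_of_injective (inclusion (inf_le_inf_right _ hle)) (inclusion_injective _) }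
  have h1 := derived_le_centralizer_of_minimal D₁ hH₁0 fun N hN hUN hEN =>
    or_iff_not_imp_left.mpr fun hN0 => le_antisymm hN (hmin ⟨hN.trans hH₁Q, hN0, hUN, hEN⟩ hN)
  refine hH₁0 (le_bot_iff.mp (le_trans ?_ hd.le))
  exact le_inf (le_inf hle (le_centralizer_iff.mp h1)) hH₁Q

/-- Maximal subgroups of a nilpotent group contain the derived group. -/
theorem commutator_le_frattini_of_nilpotent {M : Type u} [Group M] [Finite M]
    (h : Group.IsNilpotent M) : commutator M ≤ frattini M := by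
  refine le_iInf₂ fun N hN => ?_
  have hNc : IsCoatom N := hN
  have hn : N.Normal :=
    Subgroup.NormalizerCondition.normal_of_coatom N Group.normalizerCondition_of_isNilpotent hNc
  have hcyc : IsMulCommutative (M ⧸ N) := ⟨⟨fun a b => by
    by_cases ha : a = 1
    · rw [ha, one_mul, mul_one]
    have htop : zpowers a = ⊤ := by
      obtain ⟨x, rfl⟩ := QuotientGroup.mk'_surjective N a
      have h1 : N < N ⊔ zpowers x := left_lt_sup.mpr fun hle => ha
        ((QuotientGroup.eq_one_iff x).mpr (hle (mem_zpowers x)))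
      rw [← MonoidHom.map_zpowers]
      refine top_le_iff.mp ?_
      rw [← map_top_of_surjective _ (QuotientGroup.mk'_surjective N), ← hNc.2 _ h1, Subgroup.map_sup,
        (Subgroup.map_eq_bot_iff _).mpr (QuotientGroup.ker_mk' N).ge, bot_sup_eq]
    obtain ⟨i, rfl⟩ := mem_zpowers_iff.mp (htop.ge (mem_top b))
    exact (Commute.refl a).zpow_right i⟩⟩
  rw [_root_.commutator_def, Subgroup.commutator_le]
  intro x _ y _
  rw [← QuotientGroup.eq_one_iff]
  change QuotientGroup.mk' N ⁅x, y⁆ = 1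
  rw [map_commutatorElement, commutatorElement_eq_one_iff_mul_comm]
  exact mul_comm' _ _

/-- BG 3.10, the derived group. -/
theorem derived_le_centralizer {U E M : Subgroup X} (hEU : E ≤ normalizer (U : Set X))
    (hfpf : ∀ e ∈ E, e ≠ 1 → ∀ a ∈ U, e * a = a * e → a = 1) (hp : (Nat.card E).Prime)
    (hUM : U ≤ normalizer (M : Set X)) (hEM : E ≤ normalizer (M : Set X))
    (hnil : Group.IsNilpotent M) (hcop : (Nat.card M).Coprime (Nat.card ↥(U ⊔ E)))
    (hfixU : M ⊓ centralizer (U : Set X) = ⊥) (hcyc : IsCyclic ↥(M ⊓ centralizer (E : Set X))) :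
    ⁅U, U⁆ ≤ centralizer (M : Set X) := by
  set Φ := (frattini M).map M.subtype with hΦ
  have hΦM : Φ ≤ M := map_subtype_le _
  set Y := normalizer (M : Set X) with hY
  have hYΦ : Y ≤ normalizer (Φ : Set X) := by
    intro g hg
    have hch : (frattini M).Characteristic := frattini_characteristic
    have := Subgroup.characteristic_iff_map_eq.mp hch (M.normalizerMonoidHom ⟨g, hg⟩)
    refine Coprime.mem_normalizer_of_map_conj ?_
    rw [hΦ, map_map]
    conv_rhs => rw [← this, map_map]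
    rfl
  have hMY : M ≤ Y := le_normalizer
  have hN : (Φ.subgroupOf Y).Normal :=
    (normal_subgroupOf_iff_le_normalizer (hΦM.trans hMY)).mpr hYΦ
  set π := QuotientGroup.mk' (Φ.subgroupOf Y) with hπ
  have hπ1 : ∀ y : Y, π y = 1 ↔ (y : X) ∈ Φ := fun y => QuotientGroup.eq_one_iff y
  set Ub := (U.subgroupOf Y).map π with hUb
  set Eb := (E.subgroupOf Y).map π with hEb
  set Mb := (M.subgroupOf Y).map π with hMb
  have hinj : ∀ x ∈ U ⊔ E, x ∈ Φ → x = 1 := fun x hx hxΦ => by
    have h1 : x ∈ M ⊓ (U ⊔ E) := ⟨hΦM hxΦ, hx⟩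
    rwa [Coprime.inf_eq_bot hcop, mem_bot] at h1
  have hcardE : Nat.card Eb = Nat.card E := by
    rw [hEb, ← Nat.card_congr (subgroupOfEquivOfLe hEM).toEquiv]
    refine le_antisymm (Nat.le_of_dvd Nat.card_pos (card_map_dvd _ _))
      (Nat.card_le_card_of_injective (π.subgroupMap (E.subgroupOf Y)) ?_)
    rw [injective_iff_map_eq_one]
    intro x hx
    exact Subtype.ext (Subtype.ext (hinj _ (mem_sup_right x.2)
      ((hπ1 _).mp (congrArg Subtype.val hx))))
  have hnorm : ∀ {A B : Subgroup X}, A ≤ normalizer (B : Set X) →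
      (A.subgroupOf Y).map π ≤ normalizer ((B.subgroupOf Y).map π : Set (Y ⧸ Φ.subgroupOf Y)) := by
    intro A B hAB
    refine le_trans (Subgroup.map_mono ?_) (le_normalizer_map π)
    intro a ha
    exact mem_normalizer_iff.mpr fun b => mem_normalizer_iff.mp (hAB ha) (b : X)
  have hlift : ∀ {A : Subgroup X}, A ≤ U ⊔ E → A ≤ Y → ∀ m : Y, (m : X) ∈ M →
      π m ∈ centralizer ((A.subgroupOf Y).map π : Set (Y ⧸ Φ.subgroupOf Y)) →
      ∃ c ∈ M ⊓ centralizer (A : Set X), (m : X)⁻¹ * c ∈ Φ := by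
    intro A hA hAY m hm hc
    refine Coprime.exists_centralizer_mem_of_comm_mem (hAY)
      (hcop.coprime_dvd_right (card_dvd_of_le hA)).symm
      (Or.inr (by have := hnil; infer_instance)) hΦM (hMY.trans hYΦ) (hAY.trans hYΦ) hm
      fun a ha => ?_
    have h1 : π (⟨a, hAY ha⟩ * m * ⟨a, hAY ha⟩⁻¹ * m⁻¹) = 1 := by
      have h2 := mem_centralizer_iff.mp hc _ ⟨⟨a, hAY ha⟩, mem_subgroupOf.mpr ha, rfl⟩
      rw [map_mul, map_mul, map_mul, map_inv, map_inv, h2, mul_inv_cancel_right, mul_inv_cancel]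
    exact (hπ1 _).mp h1
  have hD : ModHyp Ub Eb Mb :=
    { normEU := hnorm hEU
      normUH := hnorm hUM
      normEH := hnorm hEM
      fpf := by
        rintro _ ⟨e, he, rfl⟩ he1 _ ⟨a, ha, rfl⟩ hcomm
        have he' : (e : X) ∈ E := he
        have ha' : (a : X) ∈ U := ha
        have h1 : (e : X) * a * (e : X)⁻¹ * (a : X)⁻¹ ∈ Φ := by
          refine (hπ1 (e * a * e⁻¹ * a⁻¹)).mp ?_
          rw [map_mul, map_mul, map_mul, map_inv, map_inv, hcomm, mul_inv_cancel_right,
            mul_inv_cancel]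
        have h2 := hinj _ (mul_mem (mul_mem (mul_mem (mem_sup_right he') (mem_sup_left ha'))
          (inv_mem (mem_sup_right he'))) (inv_mem (mem_sup_left ha'))) h1
        have h3 : (a : X) = 1 := hfpf e he' (fun h0 => he1 (by
          rw [show e = 1 from Subtype.ext h0, map_one])) a ha'
          (mul_inv_eq_iff_eq_mul.mp (mul_inv_eq_one.mp h2))
        rw [show a = 1 from Subtype.ext h3, map_one]
      prime := hcardE ▸ hp
      comm := by
        rintro _ ⟨a, ha, rfl⟩ _ ⟨b, hb, rfl⟩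
        rw [← commutatorElement_eq_one_iff_mul_comm, ← map_commutatorElement, hπ1]
        refine ⟨⁅(⟨a, ha⟩ : M), ⟨b, hb⟩⁆, commutator_le_frattini_of_nilpotent hnil ?_, rfl⟩
        rw [_root_.commutator_def]
        exact commutator_mem_commutator (mem_top _) (mem_top _)
      coprime := by
        refine (hcop.coprime_dvd_left ?_).coprime_dvd_right ?_
        · rw [← Nat.card_congr (subgroupOfEquivOfLe hMY).toEquiv]
          exact card_map_dvd _ _
        · rw [← Subgroup.map_sup, ← subgroupOf_sup hUM hEM,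
            ← Nat.card_congr (subgroupOfEquivOfLe (sup_le hUM hEM)).toEquiv]
          exact card_map_dvd _ _
      fixU := by
        rw [eq_bot_iff]
        rintro _ ⟨⟨m, hm, rfl⟩, hc⟩
        obtain ⟨c, hc1, hmc⟩ := hlift le_sup_left hUM m hm hc
        rw [hfixU, mem_bot] at hc1
        rw [hc1, mul_one] at hmc
        exact mem_bot.mpr ((hπ1 m).mpr (inv_mem_iff.mp hmc))
      fixE := by
        have hle : Mb ⊓ centralizer (Eb : Set (Y ⧸ Φ.subgroupOf Y)) ≤
            (((M ⊓ centralizer (E : Set X)).subgroupOf Y).map π) := by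
          rintro _ ⟨⟨m, hm, rfl⟩, hc⟩
          obtain ⟨c, hc1, hmc⟩ := hlift le_sup_right hEM m hm hc
          refine ⟨⟨c, hMY hc1.1⟩, hc1, ?_⟩
          exact (QuotientGroup.eq.mpr (mem_subgroupOf.mpr hmc)).symm
        have : IsCyclic ↥((M ⊓ centralizer (E : Set X)).subgroupOf Y) :=
          isCyclic_of_surjective _
            (subgroupOfEquivOfLe (inf_le_left.trans hMY : M ⊓ centralizer (E : Set X) ≤ Y)).symm.surjective
        have : IsCyclic ↥(((M ⊓ centralizer (E : Set X)).subgroupOf Y).map π) :=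
          isCyclic_of_surjective _ (π.subgroupMap_surjective _)
        exact isCyclic_of_injective (inclusion hle) (inclusion_injective _) }
  have h := derived_le_centralizer_of_abelian hD
  have hU'U : ⁅U, U⁆ ≤ U := commutator_le_self U
  refine Coprime.le_centralizer_of_frattini (hU'U.trans hUM)
    ((hcop.coprime_dvd_left (card_subgroup_dvd_card _)).coprime_dvd_right
      (card_dvd_of_le (hU'U.trans le_sup_left))).symm fun a ha k hk => ?_
  have haY : a ∈ Y := hUM (hU'U ha)
  have ha' : π ⟨a, haY⟩ ∈ ⁅Ub, Ub⁆ := by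
    rw [hUb, ← map_commutator]
    refine mem_map_of_mem π ?_
    have h1 : (⁅U.subgroupOf Y, U.subgroupOf Y⁆).map Y.subtype = ⁅U, U⁆ := by
      rw [map_commutator, subgroupOf_map_subtype, inf_eq_left.mpr hUM]
    obtain ⟨z, hz, hza⟩ := h1.ge ha
    rwa [show (⟨a, haY⟩ : Y) = z from Subtype.ext hza.symm]
  have h1 : π (⟨a, haY⟩ * ⟨k, hMY hk⟩ * ⟨a, haY⟩⁻¹ * ⟨k, hMY hk⟩⁻¹) = 1 := by
    have h2 := mem_centralizer_iff.mp (h ha') _ ⟨⟨k, hMY hk⟩, mem_subgroupOf.mpr hk, rfl⟩
    rw [map_mul, map_mul, map_mul, map_inv, map_inv, ← h2, mul_inv_cancel_right, mul_inv_cancel]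
  exact (hπ1 _).mp h1

/-- BG 3.10. -/
theorem frobenius_prime_action {K R M : Subgroup X} (hK1 : K ≠ ⊥) (hR1 : R ≠ ⊥)
    (hRK : R ≤ normalizer (K : Set X))
    (hfrob : ∀ r ∈ R, r ≠ 1 → K ⊓ centralizer ({r} : Set X) = ⊥)
    (hM1 : M ≠ ⊥) (hMn : Group.IsNilpotent M) (hKM : K ≤ normalizer (M : Set X))
    (hRM : R ≤ normalizer (M : Set X)) (hcop : (Nat.card ↥(K ⊔ R)).Coprime (Nat.card M))
    (hCK : M ⊓ centralizer (K : Set X) = ⊥)
    (hpr : ∀ x ∈ R, x ≠ 1 → M ⊓ centralizer ({x} : Set X) = M ⊓ centralizer (R : Set X)) :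
    (Nat.card R).Prime ∧ Nat.card M = Nat.card ↥(M ⊓ centralizer (R : Set X)) ^ Nat.card R ∧
      (IsCyclic ↥(M ⊓ centralizer (R : Set X)) → ⁅K, K⁆ ≤ centralizer (M : Set X)) := by
  have hfpf : ∀ e ∈ R, e ≠ 1 → ∀ a ∈ K, e * a = a * e → a = 1 := fun e he he1 a ha hc =>
    mem_bot.mp ((hfrob e he he1).le ⟨ha, mem_centralizer_singleton_iff.mpr hc.symm⟩)
  have hMs : Group.IsSolvable M := by
    have := hMn
    infer_instance
  have hform := fw_formula hRK hfpf hK1 hR1 hKM hRM hMs hcop.symm hCK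
  obtain ⟨q, hq, hqd⟩ := Nat.exists_prime_and_dvd (mt card_eq_one.mp hR1)
  have : Fact q.Prime := ⟨hq⟩
  obtain ⟨⟨x, hx⟩, hxq⟩ := exists_prime_orderOf_dvd_card' (G := R) q hqd
  rw [Subgroup.orderOf_mk] at hxq
  have hx1 : x ≠ 1 := fun h0 => by
    rw [h0, orderOf_one] at hxq
    exact hq.ne_one hxq.symm
  have hxR : zpowers x ≤ R := zpowers_le.mpr hx
  have hform' := fw_formula (hxR.trans hRK) (fun e he => hfpf e (hxR he)) hK1
    (fun h0 => hx1 (mem_bot.mp (h0 ▸ mem_zpowers x))) hKM (hxR.trans hRM) hMs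
    (hcop.symm.coprime_dvd_right (card_dvd_of_le (sup_le_sup_left hxR K))) hCK
  have hCx : M ⊓ centralizer (zpowers x : Set X) = M ⊓ centralizer (R : Set X) := by
    refine le_antisymm ?_ (inf_le_inf_left _ (centralizer_le hxR))
    rw [← hpr x hx hx1]
    exact inf_le_inf_left _ (centralizer_le (Set.singleton_subset_iff.mpr (mem_zpowers x)))
  rw [hCx, Nat.card_zpowers, hxq] at hform'
  have hC1 : 1 < Nat.card ↥(M ⊓ centralizer (R : Set X)) := by
    by_contra hle
    push Not at hle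
    have h1 : Nat.card ↥(M ⊓ centralizer (R : Set X)) = 1 := le_antisymm hle Nat.card_pos
    rw [h1, one_pow] at hform
    exact hM1 (card_eq_one.mp hform)
  have hRq : Nat.card R = q := Nat.pow_right_injective hC1 (hform.symm.trans hform')
  exact ⟨hRq ▸ hq, hform, fun hcyc => derived_le_centralizer hRK hfpf (hRq ▸ hq) hKM hRM hMn
    hcop.symm hCK hcyc⟩

end Cfsg.Agent.OddOrder.BG3
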