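import Cfsg.Agent.OddOrder.BG11.FpfNilpotent
import Cfsg.Agent.Cores.Fitting
import Cfsg.Agent.Fusion.PComplement
import Cfsg.Agent.Fusion.PResidual
import Cfsg.Agent.Coprime.Commutator

/-!
BG 3.7: prime action with no fixed points on the Fitting subgroup.
-/

set_option autoImplicit false

namespace Cfsg.Agent.OddOrder.BG3

open Subgroup
open scoped commutatorElement

universe u

variable {G : Type u} [Group G] [Finite G]

/-- An operator group of prime order without fixed points on `F(K)` acts trivially on `K / F(K)`. -/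
theorem commutator_le_fittingOf_of_prime [Group.IsSolvable G] (hodd : Odd (Nat.card G))
    {K A : Subgroup G} [K.Normal] {r : ℕ} [hr : Fact r.Prime] (hA : Nat.card A = r)
    (hrK : ¬ r ∣ Nat.card K) (hfix : Cfsg.fittingOf K ⊓ centralizer (A : Set G) = ⊥) :
    ⁅K, A⁆ ≤ Cfsg.fittingOf K := by
  set F := Cfsg.fittingOf K with hF
  have hFK : F ≤ K := map_subtype_le _
  have hFn : F.Normal := ConjAct.normal_of_characteristic_of_normal
  have hFnil : Group.IsNilpotent F :=
    Group.nilpotent_of_mulEquiv (_h := Cores.fittingSubgroup_isNilpotent)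
      ((Cfsg.fittingSubgroup K).equivMapOfInjective K.subtype K.subtype_injective)
  have hmemF : ∀ N : Subgroup G, N ≤ K → N.Normal → Group.IsNilpotent N → N ≤ F := by
    intro N hNK hNn hN x hx
    have : Group.IsNilpotent (N.subgroupOf K) :=
      Group.nilpotent_of_mulEquiv (subgroupOfEquivOfLe hNK).symm
    exact ⟨⟨x, hNK hx⟩, Cores.le_fittingSubgroup (N := N.subgroupOf K) this hx, rfl⟩
  have hcopAK : (Nat.card A).Coprime (Nat.card K) := hA ▸ hr.out.coprime_iff_not_dvd.mpr hrK
  set π := QuotientGroup.mk' F with hπ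
  have hsurj : Function.Surjective π := QuotientGroup.mk'_surjective F
  set Kb := K.map π with hKb
  set Ab := A.map π with hAb
  have hKbn : Kb.Normal := Subgroup.Normal.map inferInstance π hsurj
  set F₂ := Cfsg.fittingOf Kb with hF₂
  have hF₂n : F₂.Normal := ConjAct.normal_of_characteristic_of_normal
  have hKsup : Kb.comap π = K := by
    rw [hKb, comap_map_eq, hπ, QuotientGroup.ker_mk', sup_eq_left.mpr hFK]
  -- `A` centralizes each `O_q` of the quotient
  have hq : ∀ q : ℕ, q.Prime →
      (Cfsg.pCore q Kb).map Kb.subtype ≤ centralizer (Ab : Set (G ⧸ F)) := by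
    intro q hq
    have : Fact q.Prime := ⟨hq⟩
    set S := (Cfsg.pCore q Kb).map Kb.subtype with hS
    have hSn : S.Normal := ConjAct.normal_of_characteristic_of_normal
    have hSq : IsPGroup q S := (Cores.pCore_isPGroup (p := q) (G := Kb)).map _
    set P := S.comap π with hP
    have hPn : P.Normal := inferInstance
    have hPK : P ≤ K := le_of_le_of_eq (comap_mono (map_subtype_le _)) hKsup
    have hFP : F ≤ P := fun x hx => by
      rw [hP, mem_comap, hπ, QuotientGroup.mk'_apply, (QuotientGroup.eq_one_iff x).mpr hx]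
      exact one_mem _
    have hPS : P.map π = S := map_comap_eq_self_of_surjective hsurj S
    set W := (Cfsg.pPrimeCore q F).map F.subtype with hW
    have hWn : W.Normal := ConjAct.normal_of_characteristic_of_normal
    have hWF : W ≤ F := map_subtype_le _
    have hWq : ¬ q ∣ Nat.card W := by
      rw [hW, card_map_of_injective F.subtype_injective]
      exact Cores.not_dvd_card_pPrimeCore
    -- `|F : W|` is a power of `q`
    have hFW : ∃ a, W.relIndex F = q ^ a := by
      have h1 := Fusion.hasNormalPComplement_iff_pResidual.mp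
        (Fusion.hasNormalPComplement_of_isNilpotent (p := q) (G := F))
      have hle : Cfsg.pResidual q F ≤ Cfsg.pPrimeCore q F :=
        Cores.le_pPrimeCore ((hq.coprime_iff_not_dvd.mpr h1).symm)
      obtain ⟨b, hb⟩ := IsPGroup.iff_card.mp (Fusion.isPGroup_quotient_pResidual (p := q) (G := F))
      rw [← index_eq_card] at hb
      obtain ⟨a, -, ha⟩ := (Nat.dvd_prime_pow hq).mp (hb ▸ index_dvd_of_le hle)
      refine ⟨a, ?_⟩
      rw [relIndex, hW, subgroupOf, comap_map_eq_self_of_injective F.subtype_injective, ha]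
    obtain ⟨a, ha⟩ := hFW
    obtain ⟨b, hb⟩ := IsPGroup.iff_card.mp hSq
    have hWP : W.relIndex P = q ^ (a + b) := by
      rw [← relIndex_mul_relIndex W F P hWF hFP, pow_add, ha]
      congr 1
      rw [← hb, ← hPS, ← relIndex_ker, hπ, QuotientGroup.ker_mk']
    -- an invariant Sylow subgroup
    have hAP : A ≤ normalizer (P : Set G) := le_of_le_of_eq le_top (normalizer_eq_top (H := P)).symm
    obtain ⟨T₀, hAT⟩ := Coprime.exists_invariant_sylow (A := A) (K := P) hAP
      (hcopAK.coprime_dvd_right (card_dvd_of_le hPK)) (Or.inr inferInstance) q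
    set T := (T₀ : Subgroup P).map P.subtype with hT
    have hTq : IsPGroup q T := T₀.isPGroup'.map _
    have hTP : T ≤ P := map_subtype_le _
    obtain ⟨k, hk⟩ := IsPGroup.iff_card.mp hTq
    have hTW : (Nat.card T).Coprime (Nat.card W) := by
      rw [hk]
      exact (hq.coprime_iff_not_dvd.mpr hWq).pow_left k
    have hAW : ⁅A, T⁆ ≤ centralizer (W : Set G) := by
      refine BG11.commutator_le_centralizer_of_fpf' ?_ hA
        (le_of_le_of_eq le_top (normalizer_eq_top (H := W)).symm)
        (fun h => hrK (h.trans (card_dvd_of_le (hWF.trans hFK))))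
        (le_bot_iff.mp (le_of_le_of_eq (inf_le_inf_right _ hWF) hfix))
        (le_of_le_of_eq le_top (normalizer_eq_top (H := W)).symm) hAT hTW
        (fun h => hrK (h.trans (card_dvd_of_le (hTP.trans hPK))))
        (hodd.of_dvd_nat (card_subgroup_dvd_card _))
      have : Group.IsNilpotent (W.subgroupOf F) := inferInstance
      exact Group.nilpotent_of_mulEquiv (subgroupOfEquivOfLe hWF)
    -- a nilpotent normal subgroup
    set N := P ⊓ centralizer (W : Set G) with hN
    have hNn : N.Normal := inferInstance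
    have hNnil : Group.IsNilpotent N := by
      have hquot : IsPGroup q (N ⧸ W.subgroupOf N) := by
        have h1 : Nat.card (N ⧸ W.subgroupOf N) ∣ q ^ (a + b) := by
          rw [← index_eq_card, ← hWP]
          change W.relIndex N ∣ W.relIndex P
          rw [← QuotientGroup.ker_mk' W, relIndex_ker, relIndex_ker]
          exact card_dvd_of_le (Subgroup.map_mono inf_le_left)
        obtain ⟨c, -, hc⟩ := (Nat.dvd_prime_pow hq).mp h1
        exact IsPGroup.of_card hc
      have := hquot.isNilpotent
      refine Subgroup.isNilpotent_of_ker_le_center (QuotientGroup.mk' (W.subgroupOf N)) ?_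
      rw [QuotientGroup.ker_mk']
      intro w hw
      refine Subgroup.mem_center_iff.mpr fun g => Subtype.ext ?_
      exact (mem_centralizer_iff.mp g.2.2 w (mem_subgroupOf.mp hw)).symm
    have hATF : ⁅A, T⁆ ≤ F :=
      (le_inf ((le_normalizer_iff_commutator_le_right.mp hAT).trans hTP) hAW).trans
        (hmemF N (inf_le_left.trans hPK) hNn hNnil)
    -- `T` covers `S`
    intro y hy
    obtain ⟨t, ht, rfl⟩ : ∃ t ∈ T, π t = y := by
      have htop : (T₀.mapSurjective (π.subgroupMap_surjective P) : Subgroup (P.map π)) = ⊤ :=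
        ((T₀.mapSurjective (π.subgroupMap_surjective P)).is_maximal'
          (Q := ⊤) (by rw [hPS]; exact hSq.to_subgroup ⊤) le_top).symm
      have hy' : (⟨y, hPS.ge hy⟩ : P.map π) ∈
          (T₀.mapSurjective (π.subgroupMap_surjective P) : Subgroup (P.map π)) := htop.ge (mem_top _)
      obtain ⟨t, ht, hty⟩ := hy'
      exact ⟨(t : G), ⟨t, ht, rfl⟩, congrArg Subtype.val hty⟩
    refine mem_centralizer_iff.mpr ?_
    rintro _ ⟨x, hx, rfl⟩
    rw [← map_mul, ← map_mul]
    have h1 : π ⁅x, t⁆ = 1 := (QuotientGroup.eq_one_iff _).mpr (hATF (commutator_mem_commutator hx ht))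
    rw [map_commutatorElement, commutatorElement_eq_one_iff_mul_comm] at h1
    rw [map_mul, map_mul, h1]
  have hAF₂ : ⁅F₂, Ab⁆ = ⊥ := by
    rw [commutator_eq_bot_iff_le_centralizer, hF₂, Cfsg.fittingOf,
      Cores.iSup_pCore_eq_fittingSubgroup, Subgroup.map_iSup]
    exact iSup_le fun q => hq q q.2
  -- three subgroups
  have h3 : ⁅⁅Ab, Kb⁆, F₂⁆ = ⊥ := by
    refine commutator_commutator_eq_bot_of_rotate ?_ ?_
    · refine le_bot_iff.mp ?_
      calc ⁅⁅Kb, F₂⁆, Ab⁆ ≤ ⁅F₂, Ab⁆ := commutator_mono (commutator_le_right Kb F₂) le_rfl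
        _ = ⊥ := hAF₂
    · rw [hAF₂, commutator_bot_left]
  have hle : ⁅Kb, Ab⁆ ≤ F₂ := by
    rw [commutator_comm]
    intro x hx
    have hxK : x ∈ Kb := commutator_le_right Ab Kb hx
    refine ⟨⟨x, hxK⟩, Cores.centralizer_fittingSubgroup_le
      (mem_centralizer_iff.mpr fun y hy => Subtype.ext ?_), rfl⟩
    exact mem_centralizer_iff.mp (commutator_eq_bot_iff_le_centralizer.mp h3 hx) (y : G ⧸ F)
      ⟨y, hy, rfl⟩
  have hcop' : (Nat.card Ab).Coprime (Nat.card Kb) :=
    (hcopAK.coprime_dvd_left (card_map_dvd _ _)).coprime_dvd_right (card_map_dvd _ _)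
  have h4 : ⁅Kb, Ab⁆ = ⊥ := by
    rw [← Coprime.commutator_commutator_eq (le_of_le_of_eq le_top (normalizer_eq_top (H := Kb)).symm)
      hcop' (Or.inr inferInstance)]
    exact le_bot_iff.mp ((commutator_mono hle le_rfl).trans hAF₂.le)
  rwa [hKb, hAb, ← map_commutator, Subgroup.map_eq_bot_iff, hπ, QuotientGroup.ker_mk'] at h4

/-- BG 3.7. -/
theorem prime_action_commutator_le_fittingOf [Group.IsSolvable G] (hodd : Odd (Nat.card G))
    (K R : Subgroup G) [K.Normal] (hcop : (Nat.card K).Coprime (Nat.card R))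
    (hprime : ∀ x ∈ R, x ≠ 1 → K ⊓ centralizer ({x} : Set G) = K ⊓ centralizer (R : Set G))
    (hF : Cfsg.fittingOf K ⊓ centralizer (R : Set G) = ⊥) : ⁅K, R⁆ ≤ Cfsg.fittingOf K := by
  set F := Cfsg.fittingOf K with hFd
  by_cases hR : R = ⊥
  · rw [hR, commutator_bot_right]
    exact bot_le
  obtain ⟨q, hq, hqd⟩ := Nat.exists_prime_and_dvd (mt card_eq_one.mp hR)
  have : Fact q.Prime := ⟨hq⟩
  obtain ⟨⟨x, hx⟩, hxq⟩ := exists_prime_orderOf_dvd_card' (G := R) q hqd
  rw [Subgroup.orderOf_mk] at hxq
  have hx1 : x ≠ 1 := fun h0 => by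
    rw [h0, orderOf_one] at hxq
    exact hq.ne_one hxq.symm
  set A := zpowers x with hA
  have hAR : A ≤ R := zpowers_le.mpr hx
  have hAcard : Nat.card A = q := by rw [hA, Nat.card_zpowers, hxq]
  have hFK : F ≤ K := map_subtype_le _
  have hFn : F.Normal := ConjAct.normal_of_characteristic_of_normal
  have hqK : ¬ q ∣ Nat.card K := fun h =>
    hq.ne_one (Nat.eq_one_of_dvd_coprimes hcop h hqd)
  have hCA : K ⊓ centralizer (A : Set G) ≤ K ⊓ centralizer (R : Set G) := by
    rw [← hprime x hx hx1]
    exact inf_le_inf_left _ (centralizer_le (Set.singleton_subset_iff.mpr (mem_zpowers x)))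
  have hfix : F ⊓ centralizer (A : Set G) = ⊥ := by
    rw [eq_bot_iff, ← hF]
    exact fun y hy => ⟨hy.1, (hCA ⟨hFK hy.1, hy.2⟩).2⟩
  have h1 := commutator_le_fittingOf_of_prime hodd hAcard hqK hfix
  refine Subgroup.commutator_le.mpr fun k hk a ha => ?_
  have hAK : A ≤ normalizer (K : Set G) := le_of_le_of_eq le_top (normalizer_eq_top (H := K)).symm
  have hk' : k ∈ (K ⊓ centralizer (A : Set G)) ⊔ F :=
    (Coprime.centralizer_sup_eq hAK (hAcard ▸ hq.coprime_iff_not_dvd.mpr hqK)
      (Or.inl inferInstance) hFK (le_of_le_of_eq le_top (normalizer_eq_top (H := F)).symm)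
      (le_of_le_of_eq le_top (normalizer_eq_top (H := F)).symm) hk).mp fun b hb => by
        have := h1 (commutator_mem_commutator hk hb)
        have h2 := F.inv_mem this
        rwa [commutatorElement_inv, commutatorElement_def] at h2
  obtain ⟨c, hc, f, hf, rfl⟩ := mem_sup_of_normal_right.mp (sup_le_sup_right hCA F hk')
  rw [← QuotientGroup.eq_one_iff]
  change QuotientGroup.mk' F ⁅c * f, a⁆ = 1
  rw [map_commutatorElement, map_mul, show QuotientGroup.mk' F f = 1 from
    (QuotientGroup.eq_one_iff f).mpr hf, mul_one, ← map_commutatorElement,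
    commutatorElement_eq_one_iff_mul_comm.mpr (mem_centralizer_iff.mp hc.2 a ha).symm, map_one]

end Cfsg.Agent.OddOrder.BG3
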