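import Cfsg.Agent.OddOrder.BG3.FixLine
import Cfsg.Agent.Coprime.Commutator
import Cfsg.Agent.Coprime.Centralize
import Cfsg.Agent.PGroups.Basic
import Cfsg.Agent.PGroups.Commutator

/-!
BG 3.6, the final configuration: a `q`-group `K` and a `p`-group `Q` acting on an elementary
abelian `p`-group `P`, an element `t` of prime order with a fixed line on `P`, no fixed point on `Q`,
cyclic fixed points on `K`. No such configuration exists in odd order.
-/

set_option autoImplicit false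

namespace Cfsg.Agent.OddOrder.BG3

open Subgroup
open scoped IsMulCommutative commutatorElement

variable {G : Type*} [Group G] [Finite G]

/-- `s` and `t` normalising a cyclic group have a commutator centralising it. -/
theorem commutator_le_centralizer_of_cyclic {C A B : Subgroup G} (hC : IsCyclic C)
    (hA : A ≤ normalizer (C : Set G)) (hB : B ≤ normalizer (C : Set G)) :
    ⁅A, B⁆ ≤ centralizer (C : Set G) := by
  obtain ⟨⟨c, hc⟩, hgen⟩ := hC.exists_generator
  have hval : ∀ s ∈ normalizer (C : Set G), ∃ a : ℤ, ∀ x ∈ C, s * x * s⁻¹ = x ^ a := by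
    intro s hs
    obtain ⟨a, ha⟩ := mem_zpowers_iff.mp (hgen ⟨s * c * s⁻¹, (mem_normalizer_iff.mp hs c).mp hc⟩)
    have ha' : s * c * s⁻¹ = c ^ a := by simpa using (congrArg Subtype.val ha).symm
    refine ⟨a, fun x hx => ?_⟩
    obtain ⟨k, hk⟩ := mem_zpowers_iff.mp (hgen ⟨x, hx⟩)
    have hk' : c ^ k = x := by simpa using congrArg Subtype.val hk
    rw [← hk', ← conj_zpow, ha', ← zpow_mul, ← zpow_mul, mul_comm]
  refine commutator_le.mpr fun a ha b hb => mem_centralizer_iff.mpr fun x hx => ?_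
  obtain ⟨i, hi⟩ := hval a (hA ha)
  obtain ⟨j, hj⟩ := hval b (hB hb)
  obtain ⟨i', hi'⟩ := hval a⁻¹ (inv_mem (hA ha))
  obtain ⟨j', hj'⟩ := hval b⁻¹ (inv_mem (hB hb))
  have hxi : ∀ k : ℤ, x ^ k ∈ C := fun k => zpow_mem (show x ∈ C from hx) k
  have h1 : a * b * a⁻¹ * b⁻¹ * x * (a * b * a⁻¹ * b⁻¹)⁻¹ = x ^ (j' * i' * j * i) := by
    have e1 : b⁻¹ * x * b = x ^ j' := by simpa using hj' x hx
    have e2 : a⁻¹ * x ^ j' * a = x ^ (j' * i') := by
      simpa [zpow_mul] using hi' _ (hxi j')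
    calc a * b * a⁻¹ * b⁻¹ * x * (a * b * a⁻¹ * b⁻¹)⁻¹
        = a * (b * (a⁻¹ * (b⁻¹ * x * b) * a) * b⁻¹) * a⁻¹ := by group
      _ = a * (b * x ^ (j' * i') * b⁻¹) * a⁻¹ := by rw [e1, e2]
      _ = a * x ^ (j' * i' * j) * a⁻¹ := by rw [hj _ (hxi _), ← zpow_mul]
      _ = x ^ (j' * i' * j * i) := by rw [hi _ (hxi _), ← zpow_mul]
  have e3 : x ^ (i' * i) = x := by
    rw [zpow_mul, ← hi _ (hxi i'), show x ^ i' = a⁻¹ * x * a by simpa using (hi' x hx).symm]
    group
  have e4 : ∀ y ∈ C, y ^ (j' * j) = y := fun y hy => by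
    rw [zpow_mul, ← hj _ (zpow_mem hy _), show y ^ j' = b⁻¹ * y * b by simpa using (hj' y hy).symm]
    group
  rw [show j' * i' * j * i = i' * i * (j' * j) by ring, zpow_mul, e3, e4 x hx,
    ← commutatorElement_def] at h1
  exact (mul_inv_eq_iff_eq_mul.mp h1).symm

/-- The configuration. -/
structure Config (p q r : ℕ) (P K Q : Subgroup G) (t : G) : Prop where
  hpq : p ≠ q
  hpr : p ≠ r
  hqr : q ≠ r
  hp2 : p ≠ 2
  hq2 : q ≠ 2
  hr2 : r ≠ 2
  order_t : orderOf t = r
  P_comm : IsMulCommutative P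
  P_exp : ∀ x ∈ P, x ^ p = 1
  K_norm_P : K ≤ normalizer (P : Set G)
  Q_norm_P : Q ≤ normalizer (P : Set G)
  t_norm_P : t ∈ normalizer (P : Set G)
  Q_norm_K : Q ≤ normalizer (K : Set G)
  t_norm_K : t ∈ normalizer (K : Set G)
  t_norm_Q : t ∈ normalizer (Q : Set G)
  K_isPGroup : IsPGroup q K
  Q_isPGroup : IsPGroup p Q
  faithful : K ⊓ centralizer (P : Set G) = ⊥
  fix_K : P ⊓ centralizer (K : Set G) = ⊥
  K_cyclic : IsCyclic ↥(K ⊓ centralizer ({t} : Set G))
  P_line : ∃ v : G, v ≠ 1 ∧ P ⊓ centralizer ({t} : Set G) = zpowers v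
  Q_fpf : Q ⊓ centralizer ({t} : Set G) = ⊥
  Q_ne : Q ≠ ⊥
  Q_min : ∀ Q' ≤ Q, t ∈ normalizer (Q' : Set G) → Q' ≠ Q → Q' = ⊥
  K_min : ∀ K' ≤ K, Q ≤ normalizer (K' : Set G) → t ∈ normalizer (K' : Set G) → K' ≠ K →
    K' ≤ centralizer (Q : Set G)
  K_moved : ¬ K ≤ centralizer (Q : Set G)

namespace Config

variable {p q r : ℕ} [hp : Fact p.Prime] [hq : Fact q.Prime] [hr : Fact r.Prime]
  {P K Q : Subgroup G} {t : G}

theorem mem_centralizer_zpowers {g x : G} (h : x ∈ centralizer ({g} : Set G)) :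
    x ∈ centralizer (zpowers g : Set G) := by
  refine mem_centralizer_iff.mpr fun a ha => ?_
  obtain ⟨i, rfl⟩ := mem_zpowers_iff.mp ha
  exact (Commute.zpow_left (mem_centralizer_single.mp h) i).eq

theorem centralizer_single_le {g : G} :
    centralizer ({g} : Set G) ≤ centralizer (zpowers g : Set G) := fun _ h => mem_centralizer_zpowers h

theorem centralizer_zpowers_le {g : G} :
    centralizer (zpowers g : Set G) ≤ centralizer ({g} : Set G) := fun _ h =>
  mem_centralizer_single.mpr (mem_centralizer_iff.mp h g (mem_zpowers g))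

theorem le_comap_mem_normalizer {W : Subgroup G} {g : G} (h : g ∈ normalizer (W : Set G)) :
    zpowers g ≤ normalizer (W : Set G) := zpowers_le.mpr h

theorem mem_normalizer_centralizer {W : Subgroup G} {g : G} (h : g ∈ normalizer (W : Set G)) :
    g ∈ normalizer ((centralizer (W : Set G) : Subgroup G) : Set G) := by
  have key : ∀ g ∈ normalizer (W : Set G), ∀ x ∈ centralizer (W : Set G),
      g * x * g⁻¹ ∈ centralizer (W : Set G) := by
    intro g hg x hx
    refine mem_centralizer_iff.mpr fun y hy => ?_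
    have h1 := mem_centralizer_iff.mp hx (g⁻¹ * y * g)
      (by simpa using (mem_normalizer_iff.mp (inv_mem hg) y).mp hy)
    calc y * (g * x * g⁻¹) = g * (g⁻¹ * y * g * x) * g⁻¹ := by group
      _ = g * (x * (g⁻¹ * y * g)) * g⁻¹ := by rw [h1]
      _ = g * x * g⁻¹ * y := by group
  refine mem_normalizer_iff.mpr fun x => ⟨key g h x, fun hx => ?_⟩
  simpa [mul_assoc] using key g⁻¹ (inv_mem h) _ hx

theorem t_pow (h : Config p q r P K Q t) : t ^ r = 1 := h.order_t ▸ pow_orderOf_eq_one t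

theorem card_t (h : Config p q r P K Q t) : Nat.card (zpowers t) = r := by
  rw [Nat.card_zpowers, h.order_t]

theorem not_dvd_card_of_isPGroup {l s : ℕ} (hl : l.Prime) (hs : s.Prime) (hls : l ≠ s) {W : Subgroup G}
    (hW : IsPGroup s W) : ¬ l ∣ Nat.card W := by
  have := Fact.mk hs
  obtain ⟨n, hn⟩ := IsPGroup.iff_card.mp hW
  rw [hn]
  exact fun hd => hls ((Nat.prime_dvd_prime_iff_eq hl hs).mp (hl.dvd_of_dvd_pow hd))

theorem odd_card_of_isPGroup {s : ℕ} (hs : s.Prime) (hs2 : s ≠ 2) {W : Subgroup G}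
    (hW : IsPGroup s W) : Odd (Nat.card W) := by
  have := Fact.mk hs
  obtain ⟨n, hn⟩ := IsPGroup.iff_card.mp hW
  rw [hn]
  exact (hs.odd_of_ne_two hs2).pow

theorem cop_tK (h : Config p q r P K Q t) : (Nat.card (zpowers t)).Coprime (Nat.card K) := by
  rw [h.card_t, hr.out.coprime_iff_not_dvd]
  exact not_dvd_card_of_isPGroup hr.out hq.out h.hqr.symm h.K_isPGroup

theorem cop_QK (h : Config p q r P K Q t) : (Nat.card Q).Coprime (Nat.card K) :=
  IsPGroup.coprime_card_of_ne p q h.hpq Q K h.Q_isPGroup h.K_isPGroup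

theorem solvable_t (t : G) : Group.IsSolvable (zpowers t) := Coprime.isSolvable_zpowers t

theorem Q_solvable (h : Config p q r P K Q t) : Group.IsSolvable Q :=
  haveI := h.Q_isPGroup.isNilpotent
  inferInstance

/-- `[K, Q] = K`. -/
theorem commutator_KQ (h : Config p q r P K Q t) : ⁅K, Q⁆ = K := by
  by_contra hne
  have hle := Coprime.commutator_le_left_of_normalizer h.Q_norm_K
  have h1 := h.K_min _ hle (fun s hs => Coprime.mem_normalizer_commutator (h.Q_norm_K hs) (le_normalizer hs))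
    (Coprime.mem_normalizer_commutator h.t_norm_K h.t_norm_Q) hne
  have h2 : ⁅⁅K, Q⁆, Q⁆ = ⊥ := commutator_eq_bot_iff_le_centralizer.mpr h1
  rw [Coprime.commutator_commutator_eq h.Q_norm_K h.cop_QK (Or.inl h.Q_solvable)] at h2
  exact h.K_moved (commutator_eq_bot_iff_le_centralizer.mp h2)

/-- The part of `K` centralised by `Q`. -/
abbrev fix (K Q : Subgroup G) : Subgroup G := K ⊓ centralizer (Q : Set G)

theorem fix_ne (h : Config p q r P K Q t) : fix K Q ≠ K := fun he =>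
  h.K_moved (he ▸ inf_le_right)

theorem frattini_le_fix (h : Config p q r P K Q t) : (frattini K).map K.subtype ≤ fix K Q := by
  have hn : ∀ g ∈ normalizer (K : Set G), g ∈ normalizer (((frattini K).map K.subtype : Subgroup G) : Set G) := by
    intro g hg
    have hch : (frattini K).Characteristic := frattini_characteristic
    have key : ∀ g ∈ normalizer (K : Set G), ∀ x ∈ (frattini K).map K.subtype,
        g * x * g⁻¹ ∈ (frattini K).map K.subtype := by
      rintro g hg _ ⟨x, hx, rfl⟩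
      refine ⟨K.normalizerMonoidHom ⟨g, hg⟩ x, ?_, rfl⟩
      have h2 := characteristic_iff_le_comap.mp hch (K.normalizerMonoidHom ⟨g, hg⟩) hx
      exact h2
    exact mem_normalizer_iff.mpr fun x =>
      ⟨key g hg x, fun hx => by simpa [mul_assoc] using key g⁻¹ (inv_mem hg) _ hx⟩
  refine le_inf (map_subtype_le _) (h.K_min _ (map_subtype_le _) (fun s hs => hn s (h.Q_norm_K hs))
    (hn t h.t_norm_K) fun he => ?_)
  have hK1 : (K : Subgroup G) ≠ ⊥ := fun hb => h.K_moved (hb ▸ bot_le)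
  haveI : Nontrivial K := K.nontrivial_iff_ne_bot.mpr hK1
  have htop : frattini K = ⊤ := top_le_iff.mp fun x _ => by
    obtain ⟨y, hy, hyx⟩ := he.ge x.2
    rwa [← Subtype.ext hyx]
  have hbot : (⊥ : Subgroup K) = ⊤ := frattini_nongenerating (by rw [htop, sup_top_eq])
  exact bot_ne_top hbot

theorem commutator_le_fix (h : Config p q r P K Q t) : ⁅K, K⁆ ≤ fix K Q := by
  refine le_trans ?_ h.frattini_le_fix
  rw [← map_subtype_commutator]
  exact map_mono (PGroups.commutator_le_frattini h.K_isPGroup)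

theorem pow_mem_fix (h : Config p q r P K Q t) {x : G} (hx : x ∈ K) : x ^ q ∈ fix K Q :=
  h.frattini_le_fix ⟨⟨x, hx⟩ ^ q, PGroups.pow_mem_frattini h.K_isPGroup _, rfl⟩

theorem frattini_central (h : Config p q r P K Q t) :
    (frattini K).map K.subtype ≤ centralizer (K : Set G) := by
  set Φ := (frattini K).map K.subtype with hΦ
  have h1 : ⁅⁅Q, Φ⁆, K⁆ = ⊥ := by
    rw [show ⁅Q, Φ⁆ = ⊥ by
      rw [commutator_comm]
      exact commutator_eq_bot_iff_le_centralizer.mpr (h.frattini_le_fix.trans inf_le_right),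
      commutator_bot_left]
  have h2 : ⁅⁅Φ, K⁆, Q⁆ = ⊥ := by
    refine commutator_eq_bot_iff_le_centralizer.mpr ((?_ : ⁅Φ, K⁆ ≤ Φ).trans
      (h.frattini_le_fix.trans inf_le_right))
    refine commutator_le.mpr ?_
    rintro _ ⟨a, ha, rfl⟩ b hb
    refine ⟨⁅a, (⟨b, hb⟩ : K)⁆, ?_, rfl⟩
    exact commutator_mem_commutator (H₁ := frattini K) ha (mem_top _) |>
      (commutator_le_left _ _ ·)
  have h3 := commutator_commutator_eq_bot_of_rotate h1 h2
  rw [h.commutator_KQ] at h3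
  rw [le_centralizer_iff]
  exact commutator_eq_bot_iff_le_centralizer.mp h3

theorem derived_le_centralizer (h : Config p q r P K Q t) : ⁅K, K⁆ ≤ centralizer (K : Set G) := by
  refine le_trans ?_ h.frattini_central
  rw [← map_subtype_commutator]
  exact map_mono (PGroups.commutator_le_frattini h.K_isPGroup)

theorem K_le_normalizer_fix (h : Config p q r P K Q t) : K ≤ normalizer (fix K Q : Set G) := by
  have key : ∀ k ∈ K, ∀ f ∈ fix K Q, k * f * k⁻¹ ∈ fix K Q := by
    intro k hk f hf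
    rw [show k * f * k⁻¹ = ⁅k, f⁆ * f by simp [commutatorElement_def]]
    exact mul_mem (h.commutator_le_fix (commutator_mem_commutator hk hf.1)) hf
  exact fun k hk => mem_normalizer_iff.mpr fun f => ⟨key k hk f, fun hf => by
    simpa [mul_assoc] using key k⁻¹ (inv_mem hk) _ hf⟩

theorem norm_fix (h : Config p q r P K Q t) {g : G} (hK : g ∈ normalizer (K : Set G))
    (hQ : g ∈ normalizer (Q : Set G)) : g ∈ normalizer (fix K Q : Set G) :=
  inf_normalizer_le_normalizer_inf ⟨hK, mem_normalizer_centralizer hQ⟩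

/-- `t` has fixed points on `K` moved by `Q`. -/
theorem exists_moved_fixed (h : Config p q r P K Q t) :
    ∃ c ∈ K ⊓ centralizer ({t} : Set G), c ∉ fix K Q ∧ K ⊓ centralizer ({t} : Set G) = zpowers c := by
  have hnot : ¬ K ⊓ centralizer ({t} : Set G) ≤ fix K Q := by
    intro hle
    have hQt : ⁅zpowers t, Q⁆ = Q := by
      have hle' : ⁅zpowers t, Q⁆ ≤ Q :=
        commutator_comm (zpowers t) Q ▸ Coprime.commutator_le_left_of_normalizer (zpowers_le.mpr h.t_norm_Q)
      by_contra hne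
      have h0 := h.Q_min _ hle' (Coprime.mem_normalizer_commutator (le_normalizer (mem_zpowers t)) h.t_norm_Q) hne
      rw [commutator_comm, commutator_eq_bot_iff_le_centralizer] at h0
      exact h.Q_ne (eq_bot_iff.mpr fun s hs => h.Q_fpf ▸ ⟨hs, centralizer_zpowers_le (h0 hs)⟩)
    have h1 := commutator_le_of_fpf h.hqr inf_le_left h.K_le_normalizer_fix h.commutator_le_fix
      (fun x hx => h.pow_mem_fix hx) h.t_pow h.cop_tK h.t_norm_K (h.norm_fix h.t_norm_K h.t_norm_Q)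
      h.Q_norm_K (fun s hs => h.norm_fix (h.Q_norm_K hs) (le_normalizer hs)) h.t_norm_Q
      (not_dvd_card_of_isPGroup hq.out hp.out h.hpq.symm h.Q_isPGroup)
      (not_dvd_card_of_isPGroup hr.out hp.out h.hpr.symm h.Q_isPGroup)
      (odd_card_of_isPGroup hp.out h.hp2 h.Q_isPGroup) hle
    rw [hQt, commutator_comm, h.commutator_KQ] at h1
    exact h.fix_ne (le_antisymm inf_le_left h1)
  haveI := h.K_cyclic
  obtain ⟨c, hc⟩ := IsCyclic.exists_generator (α := ↥(K ⊓ centralizer ({t} : Set G)))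
  have heq : K ⊓ centralizer ({t} : Set G) = zpowers (c : G) := by
    refine le_antisymm (fun x hx => ?_) (zpowers_le.mpr c.2)
    obtain ⟨k, hk⟩ := mem_zpowers_iff.mp (hc ⟨x, hx⟩)
    exact mem_zpowers_iff.mpr ⟨k, by simpa using congrArg Subtype.val hk⟩
  exact ⟨c, c.2, fun hcf => hnot (heq.le.trans (zpowers_le.mpr hcf)), heq⟩

/-- `t` centralises `K'`. -/
theorem derived_le_fix_t (h : Config p q r P K Q t) : ⁅K, K⁆ ≤ centralizer ({t} : Set G) := by
  set Z := ⁅K, K⁆ with hZ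
  have hZK : Z ≤ K := (h.commutator_le_fix).trans inf_le_left
  have hZQ : Z ≤ centralizer (Q : Set G) := h.commutator_le_fix.trans inf_le_right
  have hZcK : Z ≤ centralizer (K : Set G) := h.derived_le_centralizer
  have htZ : t ∈ normalizer (Z : Set G) := Coprime.mem_normalizer_commutator h.t_norm_K h.t_norm_K
  have htZ' : zpowers t ≤ normalizer (Z : Set G) := zpowers_le.mpr htZ
  have hcopZ : (Nat.card (zpowers t)).Coprime (Nat.card Z) :=
    h.cop_tK.coprime_dvd_right (card_dvd_of_le hZK)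
  set Z1 := ⁅Z, zpowers t⁆ with hZ1
  have hZ1Z : Z1 ≤ Z := Coprime.commutator_le_left_of_normalizer htZ'
  suffices hZ1b : Z1 = ⊥ from
    (commutator_eq_bot_iff_le_centralizer.mp hZ1b).trans centralizer_zpowers_le
  by_contra hZ1ne
  have hZ1n : ∀ g, (∀ z ∈ Z, z * g = g * z) → g ∈ normalizer (Z1 : Set G) := by
    intro g hg
    refine mem_normalizer_iff.mpr fun z => ⟨fun hz => ?_, fun hz => ?_⟩
    · rw [← hg z (hZ1Z hz), mul_inv_cancel_right]; exact hz
    · have h2 : g * z * g⁻¹ * g = g * (g * z * g⁻¹) := hg _ (hZ1Z hz)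
      rw [inv_mul_cancel_right] at h2
      rwa [← mul_left_cancel h2] at hz
  have hKZ1 : K ≤ normalizer (Z1 : Set G) := fun k hk => hZ1n k fun z hz =>
    (mem_centralizer_iff.mp (hZcK hz) k hk).symm
  have hQZ1 : Q ≤ normalizer (Z1 : Set G) := fun s hs => hZ1n s fun z hz =>
    (mem_centralizer_iff.mp (hZQ hz) s hs).symm
  have htZ1 : t ∈ normalizer (Z1 : Set G) :=
    Coprime.mem_normalizer_commutator htZ (le_normalizer (mem_zpowers t))
  have hZ1K : Z1 ≤ K := hZ1Z.trans hZK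
  have hZ1P : Z1 ≤ normalizer (P : Set G) := hZ1K.trans h.K_norm_P
  set P1 := ⁅P, Z1⁆ with hP1
  have hP1P : P1 ≤ P := Coprime.commutator_le_left_of_normalizer hZ1P
  have hKP1 : K ≤ normalizer (P1 : Set G) := fun k hk =>
    Coprime.mem_normalizer_commutator (h.K_norm_P hk) (hKZ1 hk)
  have hQP1 : Q ≤ normalizer (P1 : Set G) := fun s hs =>
    Coprime.mem_normalizer_commutator (h.Q_norm_P hs) (hQZ1 hs)
  have htP1 : t ∈ normalizer (P1 : Set G) := Coprime.mem_normalizer_commutator h.t_norm_P htZ1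
  haveI := h.P_comm
  have hPp : IsPGroup p P := fun x => ⟨1, Subtype.ext (by simpa using h.P_exp x x.2)⟩
  have hcop1 : (Nat.card Z1).Coprime (Nat.card P) :=
    IsPGroup.coprime_card_of_ne q p h.hpq.symm Z1 P (h.K_isPGroup.to_le hZ1K) hPp
  have hfix1 : P1 ⊓ centralizer (Z1 : Set G) = ⊥ := eq_bot_iff.mpr fun x hx =>
    (Coprime.abelian_decomposition hZ1P hcop1).1.le ⟨⟨hP1P hx.1, hx.2⟩, hx.1⟩
  have hP1ne : P1 ≠ ⊥ := fun hb => hZ1ne (eq_bot_iff.mpr fun z hz => h.faithful.le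
    ⟨hZ1K hz, (le_centralizer_iff.mp (commutator_eq_bot_iff_le_centralizer.mp hb)) hz⟩)
  have hP1c : IsMulCommutative P1 := ⟨⟨fun a b => Subtype.ext
    (show (a : G) * b = b * a from
      congrArg Subtype.val (mul_comm' (⟨a, hP1P a.2⟩ : P) ⟨b, hP1P b.2⟩))⟩⟩
  have hinv : ∀ W' ≤ P1, Z1 ≤ normalizer (W' : Set G) → t ∈ normalizer (W' : Set G) →
      W' ⊓ centralizer ({t} : Set G) = ⊥ → W' = ⊥ := by
    intro W' hW' hZW' htW' hf
    have hW'c : IsMulCommutative W' := ⟨⟨fun a b => Subtype.ext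
      (show (a : G) * b = b * a from
        congrArg Subtype.val (mul_comm' (⟨a, hW' a.2⟩ : P1) ⟨b, hW' b.2⟩))⟩⟩
    have h1 := commutator_le_centralizer_odd W' hW'c (fun v hv => h.P_exp v (hP1P (hW' hv)))
      h.t_pow h.hpr htW' hf Z1 hZW' htZ1
      (not_dvd_card_of_isPGroup hp.out hq.out h.hpq (h.K_isPGroup.to_le hZ1K))
      (not_dvd_card_of_isPGroup hr.out hq.out h.hqr.symm (h.K_isPGroup.to_le hZ1K))
      (odd_card_of_isPGroup hq.out h.hq2 (h.K_isPGroup.to_le hZ1K))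
    rw [commutator_comm, hZ1, Coprime.commutator_commutator_eq htZ' hcopZ (Or.inl (solvable_t t))] at h1
    exact eq_bot_iff.mpr fun x hx => hfix1 ▸ ⟨hW' hx, (le_centralizer_iff.mp h1) hx⟩
  obtain ⟨v, hv1, hv⟩ := h.P_line
  have hvp : orderOf v = p := orderOf_eq_prime (h.P_exp v (hv.ge (mem_zpowers v)).1) hv1
  have hv' : P1 ⊓ centralizer ({t} : Set G) = zpowers v := by
    refine eq_of_le_of_card_ge ((inf_le_inf_right _ hP1P).trans hv.le) ?_
    have hne : P1 ⊓ centralizer ({t} : Set G) ≠ ⊥ := fun hb =>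
      hP1ne (hinv P1 le_rfl (fun z hz => hKP1 (hZ1K hz)) htP1 hb)
    have hd : Nat.card ↥(P1 ⊓ centralizer ({t} : Set G)) ∣ p := by
      rw [← hvp, ← Nat.card_zpowers]
      exact card_dvd_of_le ((inf_le_inf_right _ hP1P).trans hv.le)
    rcases (Nat.dvd_prime hp.out).mp hd with h1 | h1
    · exact absurd (card_eq_one.mp h1) hne
    · rw [Nat.card_zpowers, hvp, h1]
  obtain ⟨c, hc, hcF, -⟩ := h.exists_moved_fixed
  obtain ⟨m, hm⟩ := exists_zpow_of_fix h.hpr hP1c (fun w hw => h.P_exp w (hP1P hw)) h.t_pow htP1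
    (hKP1 hc.1) (fun z hz => hKP1 (hZ1K hz)) (mem_centralizer_single.mp hc.2)
    (fun z hz => (mem_centralizer_iff.mp (hZcK (hZ1Z hz)) c hc.1).symm) hv' hinv
  -- the commutators of `c` with `Q` centralise `P1`
  set K0 := K ⊓ centralizer (P1 : Set G) with hK0
  have hK0ne : K0 ≠ K := fun he => hP1ne (eq_bot_iff.mpr fun x hx => hfix1 ▸ ⟨hx,
    (le_centralizer_iff.mp ((hZ1K.trans he.ge).trans inf_le_right)) hx⟩)
  have hK0Q : K0 ≤ centralizer (Q : Set G) := h.K_min K0 inf_le_left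
    (fun s hs => inf_normalizer_le_normalizer_inf ⟨h.Q_norm_K hs, mem_normalizer_centralizer (hQP1 hs)⟩)
    (inf_normalizer_le_normalizer_inf ⟨h.t_norm_K, mem_normalizer_centralizer htP1⟩) hK0ne
  have hcs : ∀ s ∈ Q, ⁅c, s⁆ ∈ K0 := by
    intro s hs
    refine ⟨?_, mem_centralizer_iff.mpr fun w hw => ?_⟩
    · have h1 := h.commutator_KQ.le (commutator_mem_commutator hc.1 hs)
      exact h1
    · have hd : ∀ w ∈ P1, (s * c * s⁻¹) * w * (s * c * s⁻¹)⁻¹ = w ^ m := by
        intro w hw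
        have h1 := hm (s⁻¹ * w * s)
          (by simpa using (mem_normalizer_iff.mp (inv_mem (hQP1 hs)) w).mp hw)
        calc (s * c * s⁻¹) * w * (s * c * s⁻¹)⁻¹ = s * (c * (s⁻¹ * w * s) * c⁻¹) * s⁻¹ := by group
          _ = s * (s⁻¹ * w * s) ^ m * s⁻¹ := by rw [h1]
          _ = (s * (s⁻¹ * w * s) * s⁻¹) ^ m := conj_zpow.symm
          _ = w ^ m := by group
      have hu : (s * c * s⁻¹)⁻¹ * w * (s * c * s⁻¹) ∈ P1 := by
        have : s * c * s⁻¹ ∈ normalizer (P1 : Set G) :=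
          mul_mem (mul_mem (hQP1 hs) (hKP1 hc.1)) (inv_mem (hQP1 hs))
        simpa using (mem_normalizer_iff.mp (inv_mem this) w).mp hw
      have e1 : c * ((s * c * s⁻¹)⁻¹ * w * (s * c * s⁻¹)) * c⁻¹ = w := by
        rw [hm _ hu, ← hd _ hu]
        group
      calc w * ⁅c, s⁆ = c * ((s * c * s⁻¹)⁻¹ * w * (s * c * s⁻¹)) * c⁻¹ * ⁅c, s⁆ := by rw [e1]
        _ = ⁅c, s⁆ * w := by simp only [commutatorElement_def]; group
  refine hcF ⟨hc.1, mem_centralizer_iff.mpr fun s hs => ?_⟩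
  have hpow : ∀ n : ℕ, ⁅c, s ^ n⁆ = ⁅c, s⁆ ^ n := by
    intro n
    induction n with
    | zero => simp
    | succ n ih =>
      have hcom : s * ⁅c, s ^ n⁆ = ⁅c, s ^ n⁆ * s :=
        mem_centralizer_iff.mp (hK0Q (hcs _ (pow_mem hs n))) s hs
      calc ⁅c, s ^ (n + 1)⁆ = ⁅c, s⁆ * (s * ⁅c, s ^ n⁆ * s⁻¹) := by
            rw [pow_succ']
            simp only [commutatorElement_def]
            group
        _ = ⁅c, s⁆ * ⁅c, s⁆ ^ n := by rw [hcom, mul_inv_cancel_right, ih]
        _ = ⁅c, s⁆ ^ (n + 1) := (pow_succ' _ _).symm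
  obtain ⟨k, hk⟩ := h.Q_isPGroup ⟨s, hs⟩
  have hk' : s ^ p ^ k = 1 := by simpa using congrArg Subtype.val hk
  have h1 : ⁅c, s⁆ ^ p ^ k = 1 := by rw [← hpow, hk', commutatorElement_one_right]
  obtain ⟨k2, hk2⟩ := h.K_isPGroup ⟨⁅c, s⁆, (hcs s hs).1⟩
  have h2 : ⁅c, s⁆ ^ q ^ k2 = 1 := by simpa using congrArg Subtype.val hk2
  have h3 : ⁅c, s⁆ = 1 := orderOf_eq_one_iff.mp (Nat.eq_one_of_dvd_coprimes
    (Nat.Coprime.pow k k2 ((Nat.coprime_primes hp.out hq.out).mpr h.hpq))
    (orderOf_dvd_of_pow_eq_one h1) (orderOf_dvd_of_pow_eq_one h2))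
  exact (commutatorElement_eq_one_iff_mul_comm.mp h3).symm

/-- `K` has exponent `q`. -/
theorem pow_eq_one (h : Config p q r P K Q t) : ∀ x ∈ K, x ^ q = 1 := by
  have hcent : ∀ a b : K, ⁅a, b⁆ ∈ center K := fun a b => mem_center_iff.mpr fun g => Subtype.ext
    (mem_centralizer_iff.mp (h.derived_le_centralizer (commutator_mem_commutator a.2 b.2)) g g.2)
  have hxq : ∀ a : K, a ^ q ∈ center K := fun a => mem_center_iff.mpr fun g => Subtype.ext
    (mem_centralizer_iff.mp (h.frattini_central ⟨a ^ q, PGroups.pow_mem_frattini h.K_isPGroup a, rfl⟩) g g.2)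
  have hcq : ∀ a b : K, ⁅a, b⁆ ^ q = 1 := fun a b => by
    rw [← PGroups.commutatorElement_pow_left_of_mem_center (hcent a b),
      commutatorElement_eq_one_iff_mul_comm]
    exact (mem_center_iff.mp (hxq a) b).symm
  have hmul : ∀ a b : K, (a * b) ^ q = a ^ q * b ^ q := fun a b => by
    obtain ⟨d, hd⟩ := PGroups.dvd_choose_two hq.out h.hq2
    rw [PGroups.mul_pow_of_commutator_mem_center (hcent b a), hd, pow_mul, hcq, one_pow, mul_one]
  let f : K →* K := MonoidHom.mk' (fun a => a ^ q) hmul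
  have hle : ⁅K, Q⁆ ≤ f.ker.map K.subtype := by
    refine commutator_le.mpr fun x hx s hs => ?_
    have h1 : s * x⁻¹ * s⁻¹ ∈ K := (mem_normalizer_iff.mp (h.Q_norm_K hs) _).mp (inv_mem hx)
    refine ⟨⟨x, hx⟩ * ⟨s * x⁻¹ * s⁻¹, h1⟩, ?_, by simp [commutatorElement_def, mul_assoc]⟩
    rw [SetLike.mem_coe, MonoidHom.mem_ker, map_mul]
    refine Subtype.ext ?_
    show x ^ q * (s * x⁻¹ * s⁻¹) ^ q = 1
    rw [conj_pow, mem_centralizer_iff.mp (inv_mem (h.pow_mem_fix hx)).2 s hs |>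
      (fun e => show s * (x⁻¹) ^ q = (x⁻¹) ^ q * s by simpa [inv_pow] using e), mul_inv_cancel_right,
      inv_pow, mul_inv_cancel]
  rw [h.commutator_KQ] at hle
  intro x hx
  obtain ⟨y, hy, hyx⟩ := hle hx
  have h2 : y ^ q = 1 := hy
  rw [← hyx]
  simpa using congrArg Subtype.val h2

/-- `K` is abelian. -/
theorem comm_K (h : Config p q r P K Q t) : IsMulCommutative K := by
  obtain ⟨c, hc, hcF, heq⟩ := h.exists_moved_fixed
  have hZ : ⁅K, K⁆ = ⊥ := by
    by_contra hne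
    have hle : ⁅K, K⁆ ≤ zpowers c := heq ▸ le_inf (h.commutator_le_fix.trans inf_le_left) h.derived_le_fix_t
    have hd : Nat.card ↥⁅K, K⁆ ∣ q := (card_dvd_of_le hle).trans (by
      rw [Nat.card_zpowers]
      exact orderOf_dvd_of_pow_eq_one (h.pow_eq_one c hc.1))
    rcases (Nat.dvd_prime hq.out).mp hd with h1 | h1
    · exact hne (card_eq_one.mp h1)
    · have h2 : ⁅K, K⁆ = zpowers c := eq_of_le_of_card_ge hle (by
        rw [h1, Nat.card_zpowers]
        exact Nat.le_of_dvd hq.out.pos (orderOf_dvd_of_pow_eq_one (h.pow_eq_one c hc.1)))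
      exact hcF (h.commutator_le_fix (h2.ge (mem_zpowers c)))
  exact ⟨⟨fun a b => Subtype.ext (commutatorElement_eq_one_iff_mul_comm.mp
    (mem_bot.mp (hZ.le (commutator_mem_commutator a.2 b.2))))⟩⟩

end Config

end Cfsg.Agent.OddOrder.BG3
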