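import Cfsg.Agent.H71.PLength
import Cfsg.Agent.H72.PLengthOne
import Cfsg.Agent.Cores.Fitting
import Cfsg.Agent.Coprime.Hall
import Cfsg.Agent.Coprime.Centralize

/-!
Cores of a normal subgroup in quotients, seen inside the ambient group (tools for BG 3.6).
-/

set_option autoImplicit false

universe u

namespace Cfsg.Agent.OddOrder.BG3

open Subgroup
open scoped commutatorElement

variable {G : Type u} [Group G] [Finite G] {p : ℕ} [hp : Fact p.Prime]

omit [Finite G] hp in
theorem mem_normalizer_of_forall {W : Subgroup G} {g : G} (h : ∀ x ∈ W, g * x * g⁻¹ ∈ W)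
    (h' : ∀ x ∈ W, g⁻¹ * x * g ∈ W) : g ∈ normalizer (W : Set G) :=
  mem_normalizer_iff.mpr fun x => ⟨h x, fun hx => by simpa [mul_assoc] using h' _ hx⟩

omit [Finite G] hp in
theorem mem_normalizer_map_char {L : Subgroup G} {C : Subgroup L} (hC : C.Characteristic) {g : G}
    (hg : g ∈ normalizer (L : Set G)) :
    g ∈ normalizer ((C.map L.subtype : Subgroup G) : Set G) := by
  have key : ∀ g ∈ normalizer (L : Set G), ∀ x ∈ C.map L.subtype, g * x * g⁻¹ ∈ C.map L.subtype := by
    rintro g hg _ ⟨x, hx, rfl⟩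
    exact ⟨L.normalizerMonoidHom ⟨g, hg⟩ x,
      characteristic_iff_le_comap.mp hC (L.normalizerMonoidHom ⟨g, hg⟩) hx, rfl⟩
  exact mem_normalizer_of_forall (key g hg)
    (fun x hx => by simpa using key g⁻¹ (inv_mem hg) x hx)

omit [Finite G] hp in
theorem coprime_sq_of_isPGroup {W : Subgroup G} (hW : IsPGroup p W) {n : ℕ} (hn : n.Coprime p)
    (hd : Nat.card W ∣ n) [Finite W] [Fact p.Prime] : W = ⊥ := by
  obtain ⟨k, hk⟩ := IsPGroup.iff_card.mp hW
  rw [hk] at hd
  exact card_eq_one.mp (hk.trans (Nat.eq_one_of_dvd_coprimes (hn.pow_right k) hd dvd_rfl))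

/-- A group whose `O_p` has index prime to `p` has `p`-length one. -/
theorem pLengthLE_one_of_pCore {X : Type u} [Group X] [Finite X]
    (h : (Nat.card (X ⧸ Cfsg.pCore p X)).Coprime p) : Cfsg.PLengthLE p 1 X :=
  H71.pLengthLE_succ_of_quotient_pCore (k := 0) (Cores.pLengthLE_zero_iff.mpr h)

/-- `p`-length one and trivial `O_{p'}` put every `p`-subgroup into `O_p`. -/
theorem le_pCore_of_pLengthLE {X : Type u} [Group X] [Finite X] (h0 : Cfsg.pPrimeCore p X = ⊥)
    (h : Cfsg.PLengthLE p 1 X) {W : Subgroup X} (hW : IsPGroup p W) : W ≤ Cfsg.pCore p X := by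
  have h1 := Cores.pLengthLE_zero_iff.mp ((H71.pLengthLE_succ_iff h0 (k := 0)).mp h)
  have h2 : W.map (QuotientGroup.mk' (Cfsg.pCore p X)) = ⊥ :=
    coprime_sq_of_isPGroup (hW.map _) h1 (card_subgroup_dvd_card _)
  rwa [Subgroup.map_eq_bot_iff, QuotientGroup.ker_mk'] at h2

/-- In a subgroup `L` of `p`-length one without normal `p'`-subgroups, `O_p` contains every
`p`-subgroup. -/
theorem exists_pCore_of_pLengthLE {L : Subgroup G} (hpl : Cfsg.PLengthLE p 1 L)
    (h0 : ∀ X ≤ L, L ≤ normalizer (X : Set G) →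
      (∀ g ∈ normalizer (L : Set G), g ∈ normalizer (X : Set G)) → (Nat.card X).Coprime p → X = ⊥) :
    ∃ S : Subgroup G, S ≤ L ∧ IsPGroup p S ∧ L ≤ normalizer (S : Set G) ∧
      (∀ g ∈ normalizer (L : Set G), g ∈ normalizer (S : Set G)) ∧
      ∀ W ≤ L, IsPGroup p W → W ≤ S := by
  have hn : ∀ g ∈ normalizer (L : Set G), g ∈ normalizer (((Cfsg.pPrimeCore p L).map L.subtype : Subgroup G) : Set G) :=
    fun g hg => mem_normalizer_map_char Cores.pPrimeCore_characteristic hg
  have hO : Cfsg.pPrimeCore p L = ⊥ := by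
    have := h0 _ (map_subtype_le _) (fun x hx => hn x (le_normalizer hx)) hn (by
      rw [card_map_of_injective L.subtype_injective]
      exact Cores.coprime_card_pPrimeCore)
    rwa [Subgroup.map_eq_bot_iff, L.ker_subtype, le_bot_iff] at this
  have hn' : ∀ g ∈ normalizer (L : Set G), g ∈ normalizer (((Cfsg.pCore p L).map L.subtype : Subgroup G) : Set G) :=
    fun g hg => mem_normalizer_map_char Cores.pCore_characteristic hg
  refine ⟨_, map_subtype_le _, Cores.pCore_isPGroup.map _, fun x hx => hn' x (le_normalizer hx), hn',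
    fun W hW hWp => ?_⟩
  rw [← map_subgroupOf_eq_of_le hW]
  exact map_mono (le_pCore_of_pLengthLE hO hpl hWp.comap_subtype)

/-- The preimage in `H` of `O_{p'}` of the image of `H` modulo `N`. -/
noncomputable def oprime (p : ℕ) (H N : Subgroup G) [N.Normal] : Subgroup G :=
  H ⊓ ((Cfsg.pPrimeCore p ↥(H.map (QuotientGroup.mk' N))).map
    (H.map (QuotientGroup.mk' N)).subtype).comap (QuotientGroup.mk' N)

section Oprime

variable {H N : Subgroup G} [hH : H.Normal] [hN : N.Normal]

omit [Finite G] hp in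
theorem oprime_normal : (oprime p H N).Normal := by
  haveI : (H.map (QuotientGroup.mk' N)).Normal := hH.map _ (QuotientGroup.mk'_surjective N)
  haveI : (Cfsg.pPrimeCore p ↥(H.map (QuotientGroup.mk' N))).Characteristic :=
    Cores.pPrimeCore_characteristic
  exact Subgroup.normal_inf_normal _ _

omit [Finite G] hp hH in
theorem le_oprime (hNH : N ≤ H) : N ≤ oprime p H N := fun x hx =>
  ⟨hNH hx, ⟨1, one_mem _, ((QuotientGroup.eq_one_iff x).mpr hx).symm⟩⟩

omit hp hH in
theorem relIndex_oprime_coprime : (N.relIndex (oprime p H N)).Coprime p := by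
  rw [← Cores.card_map_mk']
  have h1 : (oprime p H N).map (QuotientGroup.mk' N) ≤
      (Cfsg.pPrimeCore p ↥(H.map (QuotientGroup.mk' N))).map (H.map (QuotientGroup.mk' N)).subtype :=
    (map_mono inf_le_right).trans (map_comap_le _ _)
  refine Nat.Coprime.coprime_dvd_left (card_dvd_of_le h1) ?_
  rw [card_map_of_injective (H.map _).subtype_injective]
  exact Cores.coprime_card_pPrimeCore

omit hp hH in
theorem le_oprime_of (Z : Subgroup G) (hZH : Z ≤ H) (hn : H ≤ normalizer (Z : Set G))
    (hc : (N.relIndex Z).Coprime p) : Z ≤ oprime p H N := by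
  refine le_inf hZH (map_le_iff_le_comap.mp ?_)
  set π := QuotientGroup.mk' N
  haveI : ((Z.map π).subgroupOf (H.map π)).Normal :=
    (normal_subgroupOf_iff_le_normalizer (map_mono hZH)).mpr
      ((map_mono hn).trans (Subgroup.le_normalizer_map π))
  have h1 : (Z.map π).subgroupOf (H.map π) ≤ Cfsg.pPrimeCore p ↥(H.map π) := by
    refine Cores.le_pPrimeCore ?_
    rwa [Nat.card_congr (subgroupOfEquivOfLe (map_mono hZH)).toEquiv, Cores.card_map_mk']
  have h2 := map_mono (f := (H.map π).subtype) h1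
  rwa [map_subgroupOf_eq_of_le (map_mono hZH)] at h2

omit hp in
/-- If `O_p(H) ≤ N`, then `O_{p'}(H/N)` contains its centraliser. -/
theorem mem_oprime_of_centralizes [Group.IsSolvable G] [Fact p.Prime] (hmax : ∀ D : Subgroup G, D.Normal → D ≤ H →
      IsPGroup p D → D ≤ N) (hNp : IsPGroup p N) {h : G} (hh : h ∈ H)
    (hc : ∀ y ∈ oprime p H N, ⁅h, y⁆ ∈ N) : h ∈ oprime p H N := by
  set π := QuotientGroup.mk' N with hπ
  set Hb := H.map π with hHb
  haveI : Hb.Normal := hH.map _ (QuotientGroup.mk'_surjective N)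
  haveI : Group.IsSolvable Hb := inferInstance
  have hpc : Cfsg.pCore p Hb = ⊥ := by
    haveI : (Cfsg.pCore p Hb).Characteristic := Cores.pCore_characteristic
    set D := H ⊓ ((Cfsg.pCore p Hb).map Hb.subtype).comap π with hD
    have hDn : D.Normal := Subgroup.normal_inf_normal _ _
    have hDp : IsPGroup p D :=
      ((Cores.pCore_isPGroup.map Hb.subtype).comap_of_ker_isPGroup π
        (by rw [hπ, QuotientGroup.ker_mk']; exact hNp)).to_le inf_le_right
    have hDN := hmax D hDn inf_le_left hDp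
    refine eq_bot_iff.mpr fun z hz => ?_
    obtain ⟨x, hx, hxz⟩ := z.2
    have hxD : x ∈ D := ⟨hx, mem_comap.mpr (mem_map.mpr ⟨z, hz, hxz.symm⟩)⟩
    refine mem_bot.mpr (Subtype.ext ?_)
    rw [← hxz]
    exact (QuotientGroup.eq_one_iff x).mpr (hDN hxD)
  have hF : Cfsg.fittingSubgroup Hb ≤ Cfsg.pPrimeCore p Hb := by
    rw [Cores.iSup_pCore_eq_fittingSubgroup]
    refine (Cores.iSup_pCore_le_sup p).trans ?_
    rw [hpc, sup_bot_eq]
  have hz : (⟨π h, h, hh, rfl⟩ : Hb) ∈ centralizer (Cfsg.fittingSubgroup Hb : Set Hb) := by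
    refine mem_centralizer_iff.mpr fun y hy => ?_
    obtain ⟨x, hx, hxy⟩ := y.2
    have hxY : x ∈ oprime p H N := ⟨hx, mem_comap.mpr (mem_map.mpr ⟨y, hF hy, hxy.symm⟩)⟩
    have h1 : π ⁅h, x⁆ = 1 := (QuotientGroup.eq_one_iff _).mpr (hc x hxY)
    rw [map_commutatorElement, commutatorElement_eq_one_iff_mul_comm] at h1
    refine Subtype.ext ?_
    show (y : G ⧸ N) * π h = π h * y
    rw [← hxy, h1]
  exact ⟨hh, ⟨_, hF (Cores.centralizer_fittingSubgroup_le hz), rfl⟩⟩

end Oprime

/-- `p`-length one passes back from a quotient by a normal `p'`-subgroup. -/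
theorem pLengthLE_of_map {H N : Subgroup G} [N.Normal] (hN : (Nat.card N).Coprime p)
    (h : Cfsg.PLengthLE p 1 ↥(H.map (QuotientGroup.mk' N))) : Cfsg.PLengthLE p 1 H := by
  set ψ := (QuotientGroup.mk' N).subgroupMap H with hψ
  have hs : Function.Surjective ψ := MonoidHom.subgroupMap_surjective _ H
  refine H71.pLengthLE_of_quotient_coprime ψ.ker ?_ (Cores.pLengthLE_of_surjective h
    (f := (QuotientGroup.quotientKerEquivOfSurjective ψ hs).symm.toMonoidHom) (MulEquiv.surjective _))
  refine hN.coprime_dvd_left ?_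
  rw [← card_map_of_injective (K := ψ.ker) H.subtype_injective]
  refine card_dvd_of_le ?_
  rintro _ ⟨x, hx, rfl⟩
  exact (QuotientGroup.eq_one_iff (x : G)).mp (congrArg Subtype.val hx)

/-- A criterion for `p`-length one through the quotient by a normal subgroup of `O_p`. -/
theorem pLengthLE_of_quotient {H P X : Subgroup G} [Group.IsSolvable G] [H.Normal] [X.Normal]
    [P.Normal] (hXP : X ≤ P) (hPH : P ≤ H) (hP : IsPGroup p P)
    (hmax : ∀ D : Subgroup G, D.Normal → D ≤ H → IsPGroup p D → D ≤ P)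
    (hcent : H ⊓ centralizer (P : Set G) ≤ P)
    (htriv : ∀ L ≤ H, (Nat.card L).Coprime p → H ≤ normalizer ((P ⊔ L : Subgroup G) : Set G) →
      (∀ l ∈ L, ∀ x ∈ P, ⁅l, x⁆ ∈ X) → L ≤ centralizer (P : Set G))
    (hpl : Cfsg.PLengthLE p 1 ↥(H.map (QuotientGroup.mk' X))) : Cfsg.PLengthLE p 1 H := by
  set π := QuotientGroup.mk' X with hπ
  set Hb := H.map π with hHb
  have hXH : X ≤ H := hXP.trans hPH
  have hXp : IsPGroup p X := hP.to_le hXP
  -- `O_{p'}` of the quotient is trivial
  have hO : Cfsg.pPrimeCore p Hb = ⊥ := by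
    set Y := oprime p H X with hY
    haveI hYn : Y.Normal := oprime_normal
    have hXY : X ≤ Y := le_oprime hXH
    have hYH : Y ≤ H := inf_le_left
    have hYX : (X.relIndex Y).Coprime p := relIndex_oprime_coprime
    obtain ⟨L, hL, -⟩ := Coprime.exists_invariant_hall (A := (⊥ : Subgroup G)) (K := Y) bot_le
      (by rw [card_bot]; exact Nat.coprime_one_left _) (inferInstance) {l : ℕ | l ≠ p}
    obtain ⟨hLY, hLc, hLi⟩ := hL
    have hLcop : (Nat.card L).Coprime p := by
      rw [Nat.coprime_comm, hp.out.coprime_iff_not_dvd]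
      exact fun hd => hLc p hp.out hd rfl
    have hPX : P ⊓ Y ≤ X := by
      intro x hx
      have h1 : ((P ⊓ Y).map π) = ⊥ := by
        refine coprime_sq_of_isPGroup ((hP.to_le inf_le_left).map π) hYX ?_
        rw [← Cores.card_map_mk']
        exact card_dvd_of_le (map_mono inf_le_right)
      rw [Subgroup.map_eq_bot_iff, hπ, QuotientGroup.ker_mk'] at h1
      exact h1 hx
    have hsup : X ⊔ L = Y := by
      refine eq_of_le_of_card_ge (sup_le hXY hLY) ?_
      have hd : X ⊓ L = ⊥ := Cores.disjoint_of_isPGroup_of_coprime hXp hLcop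
      rw [Coprime.card_sup (le_top.trans (normalizer_eq_top (H := X)).ge) hd]
      have e1 : Nat.card X * X.relIndex Y = Nat.card Y := by
        rw [← relIndex_bot_left, ← relIndex_bot_left, relIndex_mul_relIndex _ _ _ bot_le hXY]
      have e2 : Nat.card L * L.relIndex Y = Nat.card Y := by
        rw [← relIndex_bot_left, ← relIndex_bot_left, relIndex_mul_relIndex _ _ _ bot_le hLY]
      have e3 : (L.relIndex Y).Coprime (X.relIndex Y) := Nat.coprime_of_dvd fun l hl h1 h2 => by
        by_cases hlp : l = p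
        · subst hlp
          exact (hp.out.coprime_iff_not_dvd.mp hYX.symm) h2
        · exact hLi l hl hlp h1
      have e4 : X.relIndex Y ∣ Nat.card L := by
        refine e3.symm.dvd_of_dvd_mul_right ?_
        rw [e2, ← e1]
        exact dvd_mul_left _ _
      rw [← e1]
      exact Nat.mul_le_mul_left _ (Nat.le_of_dvd Nat.card_pos e4)
    have hLH : L ≤ H := hLY.trans hYH
    have hLC : L ≤ centralizer (P : Set G) := by
      refine htriv L hLH hLcop ?_ fun l hl x hx => hPX ⟨?_, ?_⟩
      · have : P ⊔ L = P ⊔ Y := by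
          refine le_antisymm (sup_le_sup_left hLY _) ?_
          rw [← hsup]
          exact sup_le le_sup_left (sup_le (hXP.trans le_sup_left) le_sup_right)
        rw [this]
        exact le_top.trans (normalizer_eq_top (H := P ⊔ Y)).ge
      · rw [commutatorElement_def]
        exact P.mul_mem ((inferInstance : P.Normal).conj_mem x hx l) (P.inv_mem hx)
      · rw [show ⁅l, x⁆ = l * (x * l⁻¹ * x⁻¹) by simp [commutatorElement_def, mul_assoc]]
        exact Y.mul_mem (hLY hl) (hYn.conj_mem _ (Y.inv_mem (hLY hl)) x)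
    have hL1 : L = ⊥ := eq_bot_iff.mpr fun l hl =>
      (Cores.disjoint_of_isPGroup_of_coprime hP hLcop).le ⟨hcent ⟨hLH hl, hLC hl⟩, hl⟩
    rw [hL1, sup_bot_eq] at hsup
    refine eq_bot_iff.mpr fun z hz => mem_bot.mpr (Subtype.ext ?_)
    obtain ⟨x, hx, hxz⟩ := z.2
    have hxY : x ∈ X := hsup.ge ⟨hx, mem_comap.mpr (mem_map.mpr ⟨z, hz, hxz.symm⟩)⟩
    rw [← hxz]
    exact (QuotientGroup.eq_one_iff x).mpr hxY
  -- so a Sylow subgroup lies in `P`
  haveI : Hb.Normal := (inferInstance : H.Normal).map _ (QuotientGroup.mk'_surjective X)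
  haveI : (Cfsg.pCore p Hb).Characteristic := Cores.pCore_characteristic
  set D := H ⊓ ((Cfsg.pCore p Hb).map Hb.subtype).comap π with hD
  have hDn : D.Normal := Subgroup.normal_inf_normal _ _
  have hDp : IsPGroup p D :=
    ((Cores.pCore_isPGroup.map Hb.subtype).comap_of_ker_isPGroup π
      (by rw [hπ, QuotientGroup.ker_mk']; exact hXp)).to_le inf_le_right
  have hDP := hmax D hDn inf_le_left hDp
  obtain ⟨S⟩ := (inferInstance : Nonempty (Sylow p H))
  have hSP : (S : Subgroup H) ≤ P.subgroupOf H := by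
    intro x hx
    have h1 := le_pCore_of_pLengthLE hO hpl ((S.isPGroup'.map (π.subgroupMap H)))
      (⟨x, hx, rfl⟩ : π.subgroupMap H x ∈ (S : Subgroup H).map (π.subgroupMap H))
    exact hDP ⟨x.2, mem_comap.mpr (mem_map.mpr ⟨_, h1, rfl⟩)⟩
  haveI : (P.subgroupOf H).Normal := inferInstance
  have hle : P.subgroupOf H ≤ Cfsg.pCore p H := Cores.le_pCore hP.comap_subtype
  refine pLengthLE_one_of_pCore ?_
  rw [← Subgroup.index_eq_card, Nat.coprime_comm, hp.out.coprime_iff_not_dvd]
  exact fun hd => S.not_dvd_index (hd.trans (index_dvd_of_le (hSP.trans hle)))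

end Cfsg.Agent.OddOrder.BG3
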